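import Cfsg.Agent.Base

/-!
Additive, biadditive and quadratic maps on a finite field of characteristic two, written through
the field automorphisms.
-/

set_option autoImplicit false

namespace CL.Suz2

section Dedekind

/-- Dedekind independence, in the form used below: if two combinations of monoid homomorphisms agree,
the first family being injective, a character with non-zero coefficient on the left occurs on the right. -/
theorem exists_eq_of_sum_eq_sum {M L : Type*} [MulOneClass M] [Field L] {ι κ : Type*} [Fintype ι]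
    [Fintype κ] (a : ι → L) (χ : ι → (M →* L)) (hχ : Function.Injective χ) (b : κ → L)
    (ψ : κ → (M →* L)) (h : ∀ x, ∑ i, a i * χ i x = ∑ j, b j * ψ j x) (i₀ : ι) (hi : a i₀ ≠ 0) :
    ∃ j, b j ≠ 0 ∧ ψ j = χ i₀ := by
  classical
  by_contra hcon
  push Not at hcon
  have hli := linearIndependent_monoidHom M L
  rw [linearIndependent_iff] at hli
  have := hli (∑ i, Finsupp.single (χ i) (a i) - ∑ j, Finsupp.single (ψ j) (b j)) (by
    rw [map_sub, map_sum, map_sum]
    ext x
    simp only [Finsupp.linearCombination_single, Pi.sub_apply, Finset.sum_apply, Pi.smul_apply,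
      smul_eq_mul, Pi.zero_apply]
    rw [h x, sub_self])
  have h2 := DFunLike.congr_fun this (χ i₀)
  simp only [Finsupp.coe_sub, Pi.sub_apply, Finsupp.finsetSum_apply, Finsupp.coe_zero,
    Pi.zero_apply, Finsupp.single_apply] at h2
  rw [Finset.sum_eq_single i₀, Finset.sum_eq_zero] at h2
  · simp at h2; exact hi h2
  · intro j _
    split_ifs with hj
    · by_contra hb
      exact hcon j hb hj
    · rfl
  · intro i _ hne
    rw [if_neg (fun e => hne (hχ e))]
  · simp

theorem eq_zero_of_sum_eq_zero {M L : Type*} [MulOneClass M] [Field L] {ι : Type*} [Fintype ι]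
    (a : ι → L) (χ : ι → (M →* L)) (hχ : Function.Injective χ)
    (h : ∀ x, ∑ i, a i * χ i x = 0) (i₀ : ι) : a i₀ = 0 := by
  by_contra hi
  obtain ⟨j, -⟩ := exists_eq_of_sum_eq_sum (κ := Empty) a χ hχ (fun j => j.elim) (fun j => j.elim)
    (by simpa using h) i₀ hi
  exact j.elim

end Dedekind

variable {F : Type*} [Field F] [Fintype F] [CharP F 2]

/-- The squaring automorphism. -/
noncomputable def frob (F : Type*) [Field F] [Fintype F] [CharP F 2] : F ≃+* F :=
  frobeniusEquiv F 2

theorem frob_apply (x : F) : frob F x = x ^ 2 := rfl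

theorem frob_pow_apply (i : ℕ) (x : F) : (frob F ^ i) x = x ^ 2 ^ i := by
  induction i with
  | zero => simp
  | succ i ih => rw [pow_succ', RingAut.mul_apply, ih, frob_apply, ← pow_mul, ← pow_succ]

/-- A ring automorphism as an algebra automorphism over the prime field. -/
noncomputable def autEquiv (F : Type*) [Field F] [Fintype F] [CharP F 2] [Algebra (ZMod 2) F] :
    (F ≃+* F) ≃ (F ≃ₐ[ZMod 2] F) where
  toFun σ := AlgEquiv.ofRingEquiv (f := σ) (fun c => by
    have : (σ : F →+* F).comp (algebraMap (ZMod 2) F) = algebraMap (ZMod 2) F :=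
      Subsingleton.elim _ _
    exact DFunLike.congr_fun this c)
  invFun σ := σ.toRingEquiv
  left_inv σ := rfl
  right_inv σ := rfl

theorem exists_pow_frob (σ : F ≃+* F) : ∃ i : ℕ, σ = frob F ^ i := by
  let : Algebra (ZMod 2) F := ZMod.algebra F 2
  obtain ⟨n, hn⟩ := (FiniteField.bijective_frobeniusAlgEquivOfAlgebraic_pow (ZMod 2) F).2
    (autEquiv F σ)
  refine ⟨n.1, ?_⟩
  ext x
  have := DFunLike.congr_fun hn x
  simp only [AlgEquiv.coe_pow, FiniteField.coe_frobeniusAlgEquivOfAlgebraic_iterate, ZMod.card] at this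
  rw [frob_pow_apply, this]
  rfl

theorem aut_comm (σ τ : F ≃+* F) : σ * τ = τ * σ := by
  obtain ⟨i, rfl⟩ := exists_pow_frob σ
  obtain ⟨j, rfl⟩ := exists_pow_frob τ
  rw [← pow_add, ← pow_add, add_comm]

omit [CharP F 2] in
theorem finite_aut : Finite (F ≃+* F) :=
  Finite.of_injective (fun σ : F ≃+* F => (σ : F → F)) DFunLike.coe_injective

theorem two_pow_card_aut : 2 ^ Nat.card (F ≃+* F) = Fintype.card F := by
  let : Algebra (ZMod 2) F := ZMod.algebra F 2
  rw [Nat.card_congr (autEquiv F), IsGalois.card_aut_eq_finrank, FiniteField.pow_finrank_eq_card]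

/-- An automorphism as a monoid homomorphism. -/
def autHom (σ : F ≃+* F) : F →* F := (σ : F →+* F)

omit [Fintype F] [CharP F 2] in
@[simp] theorem autHom_apply (σ : F ≃+* F) (x : F) : autHom σ x = σ x := rfl

omit [Fintype F] [CharP F 2] in
theorem autHom_injective : Function.Injective (autHom (F := F)) := fun _ _ h =>
  RingEquiv.ext fun x => DFunLike.congr_fun h x

omit [Fintype F] [CharP F 2] in
theorem linearIndependent_aut :
    LinearIndependent F (fun σ : F ≃+* F => ((σ : F →+* F) : F → F)) :=
  (linearIndependent_monoidHom F F).comp autHom autHom_injective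

/-- Every additive endomorphism is a combination of automorphisms. -/
theorem exists_add_eq_sum [Fintype (F ≃+* F)] (f : F →+ F) :
    ∃ c : (F ≃+* F) → F, ∀ x, f x = ∑ σ, c σ * σ x := by
  classical
  let : Algebra (ZMod 2) F := ZMod.algebra F 2
  let Φ : ((F ≃+* F) → F) → (F →ₗ[ZMod 2] F) := fun c =>
    (AddMonoidHom.mk' (fun x => ∑ σ, c σ * σ x)
      (fun x y => by simp [mul_add, Finset.sum_add_distrib])).toZModLinearMap 2
  have hinj : Function.Injective Φ := by
    intro c d h
    funext σ
    have := eq_zero_of_sum_eq_zero (fun σ => c σ - d σ) autHom autHom_injective (fun x => by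
      have hx : ∑ σ, c σ * σ x = ∑ σ, d σ * σ x := DFunLike.congr_fun h x
      simp [sub_mul, Finset.sum_sub_distrib, hx]) σ
    exact sub_eq_zero.mp this
  have : Finite (F →ₗ[ZMod 2] F) :=
    Finite.of_injective (fun g : F →ₗ[ZMod 2] F => (g : F → F)) DFunLike.coe_injective
  have hcard : Nat.card ((F ≃+* F) → F) = Nat.card (F →ₗ[ZMod 2] F) := by
    rw [Nat.card_fun, Module.natCard_eq_pow_finrank (K := ZMod 2) (V := F →ₗ[ZMod 2] F),
      Module.finrank_linearMap, Nat.card_congr (autEquiv F), IsGalois.card_aut_eq_finrank,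
      Module.natCard_eq_pow_finrank (K := ZMod 2) (V := F), ← pow_mul]
  have hbij := hinj.bijective_of_nat_card_le hcard.ge
  obtain ⟨c, hc⟩ := hbij.2 (f.toZModLinearMap 2)
  exact ⟨c, fun x => (DFunLike.congr_fun hc x).symm⟩

/-- Every biadditive map is a combination of the maps `(x, y) ↦ σ x * τ y`. -/
theorem exists_biadd_eq_sum [Fintype (F ≃+* F)] (B : F →+ F →+ F) :
    ∃ c : (F ≃+* F) × (F ≃+* F) → F, ∀ x y, B x y = ∑ p, c p * (p.1 x * p.2 y) := by
  classical
  choose d hd using fun x => exists_add_eq_sum (B x)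
  have hadd : ∀ τ x y, d (x + y) τ = d x τ + d y τ := by
    intro τ x y
    have := eq_zero_of_sum_eq_zero (fun σ => d (x + y) σ - (d x σ + d y σ)) autHom autHom_injective
      (fun z => by
        have h1 := hd (x + y) z
        rw [map_add, AddMonoidHom.add_apply, hd x, hd y] at h1
        simp only [sub_mul, add_mul, Finset.sum_sub_distrib, Finset.sum_add_distrib, autHom_apply]
        rw [h1, sub_self]) τ
    exact sub_eq_zero.mp this
  choose c hc using fun τ => exists_add_eq_sum (AddMonoidHom.mk' (fun x => d x τ) (hadd τ))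
  refine ⟨fun p => c p.2 p.1, fun x y => ?_⟩
  rw [hd, Fintype.sum_prod_type_right]
  refine Finset.sum_congr rfl fun τ _ => ?_
  have := hc τ x
  simp only [AddMonoidHom.mk'_apply] at this
  rw [this, Finset.sum_mul]
  exact Finset.sum_congr rfl fun σ _ => by ring

/-- A map with biadditive polarisation, from an elementary abelian 2-group, is the diagonal of a
biadditive map. -/
theorem exists_biadd_of_polar {W Z : Type*} [AddCommGroup W] [AddCommGroup Z] [Module (ZMod 2) W]
    [Module (ZMod 2) Z] (q : W → Z) (β : W →+ W →+ Z) (h0 : q 0 = 0)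
    (hq : ∀ x y, q (x + y) = q x + q y + β x y) :
    ∃ B : W →+ W →+ Z, ∀ x, q x = B x x := by
  let β' : W →ₗ[ZMod 2] W →ₗ[ZMod 2] Z :=
    (AddMonoidHom.mk' (fun x => (β x).toZModLinearMap 2) (fun x y => by ext; simp)).toZModLinearMap 2
  let Q : QuadraticMap (ZMod 2) W Z :=
    { toFun := q
      toFun_smul := fun a x => by
        fin_cases a
        · show q ((0 : ZMod 2) • x) = ((0 : ZMod 2) * 0) • q x
          simpa using h0
        · show q ((1 : ZMod 2) • x) = ((1 : ZMod 2) * 1) • q x
          simp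
      exists_companion' := ⟨β', fun x y => hq x y⟩ }
  obtain ⟨B, hB⟩ := LinearMap.BilinMap.toQuadraticMap_surjective Q
  refine ⟨AddMonoidHom.mk' (fun x => (B x).toAddMonoidHom) (fun x y => by ext; simp), fun x => ?_⟩
  have := DFunLike.congr_fun hB x
  exact this.symm

theorem exists_quad_eq_sum [Fintype (F ≃+* F)] (q : F → F) (β : F →+ F →+ F) (h0 : q 0 = 0)
    (hq : ∀ x y, q (x + y) = q x + q y + β x y) :
    ∃ c : (F ≃+* F) × (F ≃+* F) → F, ∀ x, q x = ∑ p, c p * (p.1 x * p.2 x) := by
  let : Algebra (ZMod 2) F := ZMod.algebra F 2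
  obtain ⟨B, hB⟩ := exists_biadd_of_polar q β h0 hq
  obtain ⟨c, hc⟩ := exists_biadd_eq_sum B
  exact ⟨c, fun x => by rw [hB, hc]⟩

end CL.Suz2
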