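import Cfsg.Agent.Base
import Cfsg.Agent.Suz2.Field

/-!
The eigenvalue lemmas behind Higman's theorem on Suzuki 2-groups.
-/

set_option autoImplicit false

namespace CL.Suz2

variable {F : Type*} [Field F] [Fintype F]

/-- `α` generates the multiplicative group. -/
def Prim (α : F) : Prop := orderOf α = Fintype.card F - 1

theorem Prim.ne_zero {α : F} (h : Prim α) : α ≠ 0 := by
  rintro rfl
  have h1 : 1 < Fintype.card F := Fintype.one_lt_card
  have h2 := pow_orderOf_eq_one (0 : F)
  rw [h, zero_pow (by omega)] at h2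
  exact zero_ne_one h2

theorem Prim.exists_pow {α : F} (h : Prim α) {x : F} (hx : x ≠ 0) : ∃ k : ℕ, α ^ k = x := by
  classical
  let a : Fˣ := Units.mk0 α h.ne_zero
  have ha : orderOf a = Nat.card Fˣ := by
    rw [← orderOf_units, Nat.card_units, Nat.card_eq_fintype_card]
    exact h
  have htop : Subgroup.zpowers a = ⊤ := by
    apply Subgroup.eq_top_of_card_eq
    rw [Nat.card_zpowers, ha]
  have hm : Units.mk0 x hx ∈ Subgroup.zpowers a := htop ▸ Subgroup.mem_top _
  rw [← mem_powers_iff_mem_zpowers] at hm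
  obtain ⟨k, hk⟩ := hm
  exact ⟨k, by simpa [a] using congrArg Units.val hk⟩

theorem exists_prim (F : Type*) [Field F] [Fintype F] : ∃ α : F, Prim α := by
  obtain ⟨g, hg⟩ := IsCyclic.exists_ofOrder_eq_natCard (α := Fˣ)
  refine ⟨g, ?_⟩
  rw [Prim, orderOf_units, hg, Nat.card_units, Nat.card_eq_fintype_card]

theorem Prim.pow_eq_one_iff {α : F} (h : Prim α) {k : ℕ} : α ^ k = 1 ↔ Fintype.card F - 1 ∣ k := by
  rw [← h, orderOf_dvd_iff_pow_eq_one]

theorem prim_of_forall {α : F} (h0 : α ≠ 0) (h : ∀ k, α ^ k = 1 → Fintype.card F - 1 ∣ k) : Prim α :=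
  Nat.dvd_antisymm (orderOf_dvd_of_pow_eq_one (FiniteField.pow_card_sub_one_eq_one α h0))
    (h _ (pow_orderOf_eq_one α))

theorem Prim.hom_ext {α : F} (h : Prim α) {χ ψ : F →* F} (h0 : χ 0 = ψ 0) (h1 : χ α = ψ α) :
    χ = ψ := by
  ext x
  by_cases hx : x = 0
  · rw [hx, h0]
  · obtain ⟨k, rfl⟩ := h.exists_pow hx
    rw [map_pow, map_pow, h1]

theorem Prim.aut_ext {α : F} (h : Prim α) {σ τ : F ≃+* F} (h1 : σ α = τ α) : σ = τ :=
  autHom_injective (h.hom_ext (by simp) h1)

theorem Prim.map {α : F} (h : Prim α) (σ : F ≃+* F) : Prim (σ α) := by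
  rw [Prim, ← h]
  exact orderOf_injective (autHom σ) σ.injective α

/-- An additive subgroup stable under a primitive element is trivial or everything. -/
theorem Prim.mem_of_mem {α : F} (h : Prim α) (S : Set F) (h0 : (0 : F) ∈ S)
    (hS : ∀ x ∈ S, α * x ∈ S) {x : F} (hx : x ∈ S) (hx0 : x ≠ 0) (y : F) : y ∈ S := by
  by_cases hy : y = 0
  · rw [hy]; exact h0
  obtain ⟨k, hk⟩ := h.exists_pow (div_ne_zero hy hx0)
  have : ∀ k : ℕ, α ^ k * x ∈ S := by
    intro k
    induction k with
    | zero => simpa using hx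
    | succ k ih => rw [pow_succ', mul_assoc]; exact hS _ ih
  have h2 := this k
  rwa [hk, div_mul_cancel₀ _ hx0] at h2

variable [CharP F 2]

theorem eq_of_mul_eq_aut {σ τ ρ : F ≃+* F} (h : ∀ x, σ x * τ x = ρ x) :
    σ = τ ∧ ρ = frob F * σ := by
  have h2 : (2 : F) = 0 := CharTwo.two_eq_zero
  have h1 : σ = τ := by
    ext x
    have := h (x + 1)
    simp only [map_add, map_one] at this
    have h3 := h x
    linear_combination this - h3 - τ x * h2
  refine ⟨h1, ?_⟩
  ext x
  rw [← h, ← h1, RingAut.mul_apply, frob_apply, pow_two]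

/-- The monoid homomorphism `(x, y) ↦ σ x * τ y`. -/
def biHom (p : (F ≃+* F) × (F ≃+* F)) : F × F →* F := (autHom p.1).coprod (autHom p.2)

omit [Fintype F] [CharP F 2] in
@[simp] theorem biHom_apply (p : (F ≃+* F) × (F ≃+* F)) (x : F × F) :
    biHom p x = p.1 x.1 * p.2 x.2 := rfl

omit [Fintype F] [CharP F 2] in
theorem biHom_injective : Function.Injective (biHom (F := F)) := by
  rintro ⟨a, b⟩ ⟨c, d⟩ h
  have h1 : a = c := RingEquiv.ext fun x => by simpa using DFunLike.congr_fun h (x, 1)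
  have h2 : b = d := RingEquiv.ext fun x => by simpa using DFunLike.congr_fun h (1, x)
  rw [h1, h2]

/-- The monoid homomorphism `(x, y) ↦ σ x * σ' x * τ y`. -/
def triHom (σ σ' τ : F ≃+* F) : F × F →* F := (autHom σ * autHom σ').coprod (autHom τ)

omit [Fintype F] [CharP F 2] in
@[simp] theorem triHom_apply (σ σ' τ : F ≃+* F) (x : F × F) :
    triHom σ σ' τ x = σ x.1 * σ' x.1 * τ x.2 := rfl

omit [Fintype F] [CharP F 2] in
theorem coeff_eigen [Fintype (F ≃+* F)] {α α' lam : F} (B : F → F → F)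
    (c : (F ≃+* F) × (F ≃+* F) → F) (hc : ∀ x y, B x y = ∑ p, c p * (p.1 x * p.2 y))
    (hB : ∀ u v, B (α * u) (α' * v) = lam * B u v) (p : (F ≃+* F) × (F ≃+* F)) (hp : c p ≠ 0) :
    p.1 α * p.2 α' = lam := by
  have := eq_zero_of_sum_eq_zero (fun p => c p * (p.1 α * p.2 α' - lam)) biHom biHom_injective
    (fun x => by
      have h1 := hB x.1 x.2
      rw [hc, hc, Finset.mul_sum, ← sub_eq_zero, ← Finset.sum_sub_distrib] at h1
      rw [← h1]
      refine Finset.sum_congr rfl fun p _ => ?_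
      simp only [biHom_apply, map_mul]
      ring) p
  exact sub_eq_zero.mp ((mul_eq_zero.mp this).resolve_left hp)

/-- An alternating biadditive map whose eigenvalue is a conjugate of the eigenvalue on the source
vanishes. -/
theorem alt_eq_zero {α : F} (hα : Prim α) (π : F ≃+* F) (γ : F →+ F →+ F)
    (hγ : ∀ u v, γ (α * u) (α * v) = π α * γ u v) (halt : ∀ u, γ u u = 0) : γ = 0 := by
  classical
  have : Finite (F ≃+* F) := finite_aut
  let : Fintype (F ≃+* F) := Fintype.ofFinite _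
  obtain ⟨c, hc⟩ := exists_biadd_eq_sum γ
  have h1 : ∀ p, c p ≠ 0 → p.1 = p.2 := by
    intro p hp
    have h := coeff_eigen (fun x y => γ x y) c hc hγ p hp
    have h' : autHom p.1 * autHom p.2 = autHom π := hα.hom_ext (by simp) h
    exact (eq_of_mul_eq_aut (fun x => DFunLike.congr_fun h' x)).1
  have h2 : ∀ σ, c (σ, σ) = 0 := by
    refine eq_zero_of_sum_eq_zero (fun σ => c (σ, σ)) (fun σ => autHom (frob F * σ))
      (fun σ τ h => mul_left_cancel (autHom_injective h)) (fun x => ?_)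
    rw [← halt x, hc, Fintype.sum_prod_type]
    refine Finset.sum_congr rfl fun σ _ => ?_
    rw [Finset.sum_eq_single σ]
    · simp [frob_apply, pow_two]
    · intro τ _ hne
      by_cases h : c (σ, τ) = 0
      · simp [h]
      · exact absurd (h1 _ h).symm hne
    · simp
  ext x y
  rw [hc]
  refine Finset.sum_eq_zero fun p _ => ?_
  by_cases h : c p = 0
  · simp [h]
  · have := h1 p h
    obtain ⟨a, b⟩ := p
    simp only at this
    subst this
    exact absurd (h2 a) h

/-- An equivariant quadratic map is a multiple of one product of two automorphisms. -/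
theorem quad_eq_monomial {α lam : F} (hα : Prim α) (hlam : lam ≠ 0) (q : F → F) (β : F →+ F →+ F)
    (h0 : q 0 = 0) (hq : ∀ x y, q (x + y) = q x + q y + β x y) (he : ∀ x, q (α * x) = lam * q x) :
    ∃ σ τ : F ≃+* F, ∀ x, q x = q 1 * (σ x * τ x) := by
  classical
  have : Finite (F ≃+* F) := finite_aut
  let : Fintype (F ≃+* F) := Fintype.ofFinite _
  obtain ⟨c, hc⟩ := exists_quad_eq_sum q β h0 hq
  obtain ⟨k, hk⟩ := hα.exists_pow hlam
  have hcard : 1 < Fintype.card F := Fintype.one_lt_card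
  have hk' : α ^ (k + (Fintype.card F - 1)) = lam := by
    rw [pow_add, hk, FiniteField.pow_card_sub_one_eq_one α hα.ne_zero, mul_one]
  set m := k + (Fintype.card F - 1) with hm
  have hm0 : m ≠ 0 := by omega
  have hpow : ∀ x, q x = q 1 * x ^ m := by
    intro x
    by_cases hx : x = 0
    · rw [hx, h0, zero_pow hm0, mul_zero]
    obtain ⟨j, rfl⟩ := hα.exists_pow hx
    induction j with
    | zero => simp
    | succ j ih =>
      rw [pow_succ', he, ih (pow_ne_zero _ hα.ne_zero), mul_pow, hk']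
      ring
  by_cases h1 : q 1 = 0
  · exact ⟨1, 1, fun x => by rw [hpow, h1, zero_mul, zero_mul]⟩
  obtain ⟨p, -, hp⟩ := exists_eq_of_sum_eq_sum (ι := Unit) (fun _ => q 1) (fun _ => powMonoidHom m)
    (fun _ _ _ => rfl) c (fun p => autHom p.1 * autHom p.2)
    (fun x => by simpa using (hpow x).symm.trans (hc x)) () h1
  refine ⟨p.1, p.2, fun x => ?_⟩
  have := DFunLike.congr_fun hp x
  simp only [MonoidHom.mul_apply, autHom_apply, powMonoidHom_apply] at this
  rw [hpow, this]

theorem prod_aut_eq_one [Fintype (F ≃+* F)] {x : F} (hx : x ≠ 0) : ∏ σ : F ≃+* F, σ x = 1 := by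
  have h1 : (∏ σ : F ≃+* F, σ x) ^ 2 = ∏ σ : F ≃+* F, σ x := by
    rw [← frob_apply, map_prod]
    exact Fintype.prod_equiv (Equiv.mulLeft (frob F)) _ _ (fun σ => rfl)
  have h2 : ∏ σ : F ≃+* F, σ x ≠ 0 := Finset.prod_ne_zero_iff.mpr fun σ _ => by simpa using hx
  rw [pow_two] at h1
  exact mul_left_cancel₀ h2 (h1.trans (mul_one _).symm)

/-- The key lemma. -/
theorem key_eq_zero (hq : 2 < Fintype.card F) {α α' lam : F} (hα : Prim α) (hα' : Prim α')
    (β ν₁ ν₂ : F →+ F →+ F) (hβ : ∀ u v, β (α * u) (α' * v) = lam * β u v) (c : F)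
    (σ σ' : F ≃+* F) (hc : c = 0 ∨ σ ≠ σ')
    (hrel : ∀ u v, ν₂ v (c * (σ u * σ' u)) = β u v + ν₁ u (β u v)) : β = 0 := by
  classical
  have h2 : (2 : F) = 0 := CharTwo.two_eq_zero
  have : Finite (F ≃+* F) := finite_aut
  let : Fintype (F ≃+* F) := Fintype.ofFinite _
  obtain ⟨b, hb⟩ := exists_biadd_eq_sum β
  obtain ⟨c₁, hc₁⟩ := exists_biadd_eq_sum ν₁
  obtain ⟨c₂, hc₂⟩ := exists_biadd_eq_sum ν₂
  by_contra hne
  have hex : ∃ p, b p ≠ 0 := by
    by_contra hcon
    push Not at hcon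
    apply hne
    ext x y
    simp [hb, hcon]
  -- the step from `frob * δ` to `δ`
  have step : ∀ δ : F ≃+* F, (∃ τ, b (frob F * δ * τ, τ) ≠ 0) → ∃ τ, b (δ * τ, τ) ≠ 0 := by
    rintro δ ⟨τ, hτ⟩
    obtain ⟨j, hj, hj'⟩ := exists_eq_of_sum_eq_sum
      (κ := (((F ≃+* F) × (F ≃+* F)) × ((F ≃+* F) × (F ≃+* F))) ⊕ ((F ≃+* F) × (F ≃+* F)))
      b biHom biHom_injective
      (Sum.elim (fun r => c₁ r.1 * r.1.2 (b r.2)) (fun r => c₂ r * r.2 c))
      (Sum.elim (fun r => triHom r.1.1 (r.1.2 * r.2.1) (r.1.2 * r.2.2))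
        (fun r => triHom (r.2 * σ) (r.2 * σ') r.1))
      (fun x => by
        have h1 : β x.1 x.2 = ν₁ x.1 (β x.1 x.2) + ν₂ x.2 (c * (σ x.1 * σ' x.1)) := by
          rw [hrel]; linear_combination (- ν₁ x.1 (β x.1 x.2)) * h2
        have h3 : ∑ p, b p * biHom p x = β x.1 x.2 := by rw [hb]; rfl
        rw [h3, h1, Fintype.sum_sum_type, hc₁, hc₂, hb, Fintype.sum_prod_type (α₁ := _ × _)]
        congr 1
        · refine Finset.sum_congr rfl fun r _ => ?_
          rw [map_sum, Finset.mul_sum, Finset.mul_sum]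
          refine Finset.sum_congr rfl fun s _ => ?_
          simp only [Sum.elim_inl, map_mul, triHom_apply, RingAut.mul_apply]
          ring
        · refine Finset.sum_congr rfl fun r _ => ?_
          simp only [Sum.elim_inr, map_mul, triHom_apply, RingAut.mul_apply]
          ring) (frob F * δ * τ, τ) hτ
    rcases j with ⟨⟨ρ, π⟩, ⟨s, t⟩⟩ | ⟨ρ, π⟩
    · simp only [Sum.elim_inl] at hj hj'
      have e1 : ∀ x, ρ x * (π * s) x = (frob F * δ * τ) x := fun x => by
        simpa using DFunLike.congr_fun hj' (x, 1)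
      have e2 : π * t = τ := RingEquiv.ext fun x => by
        simpa using DFunLike.congr_fun hj' (1, x)
      obtain ⟨e3, e4⟩ := eq_of_mul_eq_aut e1
      rw [mul_assoc, mul_right_inj, e3, ← e2, ← mul_assoc, aut_comm δ π, mul_assoc,
        mul_right_inj] at e4
      refine ⟨t, ?_⟩
      rw [e4]
      intro h0
      simp [h0] at hj
    · simp only [Sum.elim_inr] at hj hj'
      have e1 : ∀ x, (π * σ) x * (π * σ') x = (frob F * δ * τ) x := fun x => by
        simpa using DFunLike.congr_fun hj' (x, 1)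
      have e3 := mul_left_cancel (eq_of_mul_eq_aut e1).1
      rcases hc with hc | hc
      · simp [hc] at hj
      · exact absurd e3 hc
  have step' : ∀ (i : ℕ) (δ : F ≃+* F), (∃ τ, b (frob F ^ i * δ * τ, τ) ≠ 0) →
      ∃ τ, b (δ * τ, τ) ≠ 0 := by
    intro i
    induction i with
    | zero => intro δ h; simpa using h
    | succ i ih =>
      intro δ h
      apply ih
      apply step
      rwa [← mul_assoc, ← pow_succ']
  have hall : ∀ δ : F ≃+* F, ∃ τ, b (δ * τ, τ) ≠ 0 := by
    intro δ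
    obtain ⟨⟨s, t⟩, hp⟩ := hex
    obtain ⟨i, hi⟩ := exists_pow_frob (s * t⁻¹ * δ⁻¹)
    apply step' i
    refine ⟨t, ?_⟩
    rw [← hi]
    simpa using hp
  choose g hg using hall
  have hval : ∀ δ : F ≃+* F, δ α * α' = (g δ)⁻¹ lam := by
    intro δ
    have h := coeff_eigen (fun x y => β x y) b hb hβ _ (hg δ)
    simp only at h
    rw [← h, aut_comm δ, RingAut.mul_apply, ← map_mul, ← RingAut.mul_apply, inv_mul_cancel]
    rfl
  have hlam : lam ≠ 0 := by
    intro h0
    have := hval 1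
    rw [h0, map_zero] at this
    exact mul_ne_zero hα.ne_zero hα'.ne_zero this
  have hinj : Function.Injective fun δ => (g δ)⁻¹ := by
    intro δ δ' h
    apply hα.aut_ext
    have h1 := hval δ
    simp only at h
    rw [h, ← hval δ'] at h1
    exact mul_right_cancel₀ hα'.ne_zero h1
  have hbij := Finite.injective_iff_bijective.mp hinj
  have hprod : ∏ δ : F ≃+* F, (δ α * α') = ∏ δ : F ≃+* F, δ lam := by
    simp only [hval]
    exact Function.Bijective.prod_comp hbij (fun τ : F ≃+* F => τ lam)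
  rw [Finset.prod_mul_distrib, prod_aut_eq_one hα.ne_zero, prod_aut_eq_one hlam, one_mul,
    Finset.prod_const, Finset.card_univ, hα'.pow_eq_one_iff, ← two_pow_card_aut,
    Nat.card_eq_fintype_card] at hprod
  rw [← two_pow_card_aut, Nat.card_eq_fintype_card] at hq
  generalize Fintype.card (F ≃+* F) = n at hprod hq
  have hn : 2 ≤ n := by
    by_contra hn
    have : n = 0 ∨ n = 1 := by omega
    rcases this with rfl | rfl <;> simp at hq
  have hle := Nat.le_of_dvd (by omega) hprod
  have hlt : ∀ k, k + 3 < 2 ^ (k + 2) := by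
    intro k
    induction k with
    | zero => simp
    | succ k ih => rw [show k + 1 + 2 = (k + 2) + 1 by ring, pow_succ]; omega
  obtain ⟨k, rfl⟩ := Nat.exists_eq_add_of_le' hn
  have := hlt k
  omega

end CL.Suz2
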