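import Cfsg.Agent.Base
import Cfsg.Agent.Suz2.Key

/-!
Decomposition of an elementary abelian 2-group under an automorphism of order dividing `|F| - 1`,
and the Chevalley-Warning bound for anisotropic quadratic maps.
-/

set_option autoImplicit false

namespace CL.Suz2

variable {F : Type*} [Field F] [Fintype F] [CharP F 2]

theorem exists_sum_equivariant {W : Type*} [AddCommGroup W] [Module (ZMod 2) W]
    (T : AddMonoid.End W) (hT : T ^ (Fintype.card F - 1) = 1) (w : W) [Fintype Fˣ] :
    ∃ (g : Fˣ → (F →+ W)) (b : F), (∀ (a : Fˣ) (x : F), g a (a * x) = T (g a x)) ∧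
      w = ∑ a, g a b := by
  classical
  let : Algebra (ZMod 2) F := ZMod.algebra F 2
  obtain ⟨τ, hτ⟩ : ∃ τ : F →ₗ[ZMod 2] ZMod 2, τ (-1) = 1 := by
    obtain ⟨τ, hτ⟩ := Module.Projective.exists_dual_eq_one (ZMod 2) (V := F) (x := -1) (by simp)
    exact ⟨τ, hτ⟩
  set N := Fintype.card F - 1 with hN
  have hcard : 1 < Fintype.card F := Fintype.one_lt_card
  let g : Fˣ → (F →+ W) := fun a => AddMonoidHom.mk'
    (fun b => ∑ k ∈ Finset.range N, τ (b * ((a⁻¹ : Fˣ) : F) ^ k) • (T ^ k) w)
    (fun x y => by simp [add_mul, add_smul, Finset.sum_add_distrib])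
  refine ⟨g, 1, fun a x => ?_, ?_⟩
  · simp only [g, AddMonoidHom.mk'_apply, map_sum]
    let h : ℕ → W := fun k => τ (a * x * ((a⁻¹ : Fˣ) : F) ^ k) • (T ^ k) w
    have h1 : ∀ k, T (τ (x * ((a⁻¹ : Fˣ) : F) ^ k) • (T ^ k) w) = h (k + 1) := by
      intro k
      simp only [h]
      rw [ZMod.map_smul, pow_succ' T, pow_succ']
      show _ • T _ = _ • T _
      congr 2
      rw [show (a : F) * x * (((a⁻¹ : Fˣ) : F) * ((a⁻¹ : Fˣ) : F) ^ k) =
        ((a : F) * ((a⁻¹ : Fˣ) : F)) * (x * ((a⁻¹ : Fˣ) : F) ^ k) by ring, Units.mul_inv, one_mul]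
    have h2 : h N = h 0 := by
      simp only [h]
      rw [hT, FiniteField.pow_card_sub_one_eq_one _ (Units.ne_zero _), pow_zero, pow_zero]
    simp only [h1]
    have h3 := Finset.sum_range_succ h N
    rw [Finset.sum_range_succ', h2] at h3
    exact (add_right_cancel h3).symm
  · simp only [g, AddMonoidHom.mk'_apply, one_mul]
    rw [Finset.sum_comm]
    have h1 : ∀ k, ∑ a : Fˣ, τ (((a⁻¹ : Fˣ) : F) ^ k) • (T ^ k) w =
        τ (if N ∣ k then -1 else 0) • (T ^ k) w := by
      intro k
      rw [← Finset.sum_smul, ← map_sum, ← FiniteField.sum_pow_units]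
      congr 2
      convert Fintype.sum_equiv (Equiv.inv Fˣ) (fun a : Fˣ => ((a⁻¹ : Fˣ) : F) ^ k)
        (fun a : Fˣ => (a : F) ^ k) (fun a => rfl)
    simp only [h1]
    rw [Finset.sum_eq_single 0]
    · simp [hτ]
    · intro k hk hk0
      rw [if_neg (fun hd => absurd (Nat.le_of_dvd (Nat.pos_of_ne_zero hk0) hd)
        (not_le.mpr (Finset.mem_range.mp hk)))]
      simp
    · intro h0
      exact absurd (Finset.mem_range.mpr (by omega)) h0

/-- `W` is the sum of its lines. -/
theorem eq_top_of_lines {W : Type*} [AddCommGroup W] [Module (ZMod 2) W]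
    (T : AddMonoid.End W) (hT : T ^ (Fintype.card F - 1) = 1)
    (hfree : ∀ (k : ℕ) (w : W), w ≠ 0 → (T ^ k) w = w → Fintype.card F - 1 ∣ k)
    (S : AddSubgroup W)
    (hS : ∀ (a : F) (g : F →+ W), Prim a → Function.Injective g → (∀ x, g (a * x) = T (g x)) →
      g.range ≤ S) : S = ⊤ := by
  classical
  rw [eq_top_iff]
  intro w _
  obtain ⟨g, b, hg, hw⟩ := exists_sum_equivariant (F := F) T hT w
  rw [hw]
  refine sum_mem fun a _ => ?_
  by_cases h0 : g a b = 0
  · rw [h0]; exact zero_mem _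
  have hk : ∀ (k : ℕ) (x : F), g a ((a : F) ^ k * x) = (T ^ k) (g a x) := by
    intro k x
    induction k with
    | zero => simp
    | succ k ih => rw [pow_succ', mul_assoc, hg, ih, pow_succ']; rfl
  have ha : Prim (a : F) := prim_of_forall a.ne_zero fun k h =>
    hfree k (g a b) h0 (by rw [← hk, h, one_mul])
  refine hS a (g a) ha ?_ (hg a) ⟨b, rfl⟩
  rw [injective_iff_map_eq_zero]
  intro x hx
  by_contra hx0
  exact h0 (ha.mem_of_mem {y | g a y = 0} (map_zero _)
    (fun y hy => by rw [Set.mem_ofPred_eq, hg, hy, map_zero]) hx hx0 b)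

/-- Chevalley-Warning bound for an anisotropic quadratic map. -/
theorem card_le_sq_of_anisotropic {W Z : Type*} [AddCommGroup W] [AddCommGroup Z]
    [Module (ZMod 2) W] [Module (ZMod 2) Z] [Finite W] [Finite Z] (B : W →+ W →+ Z)
    (hB : ∀ w, B w w = 0 → w = 0) : Nat.card W ≤ Nat.card Z ^ 2 := by
  classical
  let bW := Module.finBasis (ZMod 2) W
  let bZ := Module.finBasis (ZMod 2) Z
  rw [Module.natCard_eq_pow_finrank (K := ZMod 2) (V := W),
    Module.natCard_eq_pow_finrank (K := ZMod 2) (V := Z), ← pow_mul]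
  apply Nat.pow_le_pow_right (by simp)
  by_contra hlt
  push Not at hlt
  let p : Fin (Module.finrank (ZMod 2) Z) → MvPolynomial (Fin (Module.finrank (ZMod 2) W)) (ZMod 2) :=
    fun i => ∑ j, ∑ k, MvPolynomial.C (bZ.repr (B (bW j) (bW k)) i) *
      (MvPolynomial.X j * MvPolynomial.X k)
  have hdeg : ∀ i, (p i).totalDegree ≤ 2 := by
    intro i
    refine MvPolynomial.totalDegree_finsetSum_le fun j _ =>
      MvPolynomial.totalDegree_finsetSum_le fun k _ => ?_
    refine (MvPolynomial.totalDegree_mul _ _).trans ?_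
    rw [MvPolynomial.totalDegree_C, zero_add]
    refine (MvPolynomial.totalDegree_mul _ _).trans ?_
    simp [MvPolynomial.totalDegree_X]
  have heval : ∀ (x : Fin (Module.finrank (ZMod 2) W) → ZMod 2) i,
      MvPolynomial.eval x (p i) = bZ.repr (B (∑ j, x j • bW j) (∑ j, x j • bW j)) i := by
    intro x i
    simp only [p, map_sum, map_mul, MvPolynomial.eval_C, MvPolynomial.eval_X,
      AddMonoidHom.finsetSum_apply, Finsupp.finsetSum_apply]
    rw [Finset.sum_comm]
    refine Finset.sum_congr rfl fun k _ => Finset.sum_congr rfl fun j _ => ?_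
    have e1 : B (x j • bW j) (x k • bW k) = x j • x k • B (bW j) (bW k) := by
      have := ZMod.map_smul (B.flip (x k • bW k)) (x j) (bW j)
      simp only [AddMonoidHom.flip_apply] at this
      rw [this, ZMod.map_smul]
    rw [e1, map_smul, map_smul]
    simp only [Finsupp.smul_apply, smul_eq_mul]
    ring
  have hcw := char_dvd_card_solutions_of_fintype_sum_lt 2 (f := p) (by
    calc ∑ i, (p i).totalDegree ≤ ∑ _i : Fin (Module.finrank (ZMod 2) Z), 2 :=
          Finset.sum_le_sum fun i _ => hdeg i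
      _ < _ := by simpa using hlt)
  simp only [Fintype.card_eq_nat_card] at hcw
  have hone : Nat.card {x : Fin (Module.finrank (ZMod 2) W) → ZMod 2 //
      ∀ i, MvPolynomial.eval x (p i) = 0} = 1 := by
    rw [Nat.card_eq_one_iff_exists]
    refine ⟨⟨0, fun i => by rw [heval]; simp⟩, ?_⟩
    rintro ⟨x, hx⟩
    have h1 : B (∑ j, x j • bW j) (∑ j, x j • bW j) = 0 := by
      apply bZ.repr.injective
      ext i
      rw [← heval, hx]
      simp
    have h2 := hB _ h1
    ext j
    exact Fintype.linearIndependent_iff.mp bW.linearIndependent x h2 j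
  rw [hone] at hcw
  exact absurd hcw (by norm_num)

end CL.Suz2
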