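import Cfsg.Agent.Base
import Cfsg.Agent.Suz2.Lines

/-!
A finite 2-group with an automorphism `ξ` generating a cyclic group regular on the involutions:
coordinates on invariant sections.
-/

set_option autoImplicit false

namespace CL.Suz2

open scoped commutatorElement

/-- Working hypothesis: `P` is a finite 2-group and the powers of `ξ` permute its involutions
regularly as a cyclic group of order `|F| - 1` (vacuous for the trivial group). -/
structure Hyp (F : Type*) [Fintype F] {P : Type*} [Group P] (ξ : MulAut P) : Prop where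
  finite : Finite P
  two : IsPGroup 2 P
  card_gt : 2 < Fintype.card F
  pow_card : ξ ^ (Fintype.card F - 1) = 1
  trans : ∀ x y : P, x ≠ 1 → x * x = 1 → y ≠ 1 → y * y = 1 → ∃ k : ℕ, (ξ ^ k) x = y
  free : ∀ (k : ℕ) (x : P), x ≠ 1 → x * x = 1 → (ξ ^ k) x = x → Fintype.card F - 1 ∣ k

/-- `f` identifies the section `C / Y` with the additive group of `F`, with `ξ` acting as
multiplication by the primitive element `a`. -/
structure Coord {F : Type*} [Field F] [Fintype F] {P : Type*} [Group P] (ξ : MulAut P)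
    (C Y : Subgroup P) (a : F) (f : P → F) : Prop where
  le : Y ≤ C
  inv : ∀ x ∈ C, ξ x ∈ C
  map_mul : ∀ x ∈ C, ∀ y ∈ C, f (x * y) = f x + f y
  ker : ∀ x ∈ C, f x = 0 ↔ x ∈ Y
  surj : ∀ t, ∃ x ∈ C, f x = t
  equiv : ∀ x ∈ C, f (ξ x) = a * f x
  prim : Prim a

variable {F : Type*} [Field F] [Fintype F] {P : Type*} [Group P] {ξ : MulAut P}

theorem pow_mem_of_inv {H : Subgroup P} (hH : ∀ x ∈ H, ξ x ∈ H) (k : ℕ) {x : P} (hx : x ∈ H) :
    (ξ ^ k) x ∈ H := by
  induction k with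
  | zero => simpa using hx
  | succ k ih => rw [pow_succ', MulAut.mul_apply]; exact hH _ ih

/-- Restriction of an automorphism to an invariant subgroup of a finite group. -/
noncomputable def restrict [Finite P] (ξ : MulAut P) (H : Subgroup P) (hH : ∀ x ∈ H, ξ x ∈ H) :
    MulAut H :=
  MulEquiv.ofBijective ((ξ.toMonoidHom.comp H.subtype).codRestrict H (fun x => hH x x.2))
    (Finite.injective_iff_bijective.mp fun _ _ h =>
      Subtype.ext (ξ.injective (congrArg Subtype.val h)))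

theorem restrict_apply [Finite P] (H : Subgroup P) (hH : ∀ x ∈ H, ξ x ∈ H) (x : H) :
    (restrict ξ H hH x : P) = ξ x := rfl

theorem restrict_pow_apply [Finite P] (H : Subgroup P) (hH : ∀ x ∈ H, ξ x ∈ H) (k : ℕ) (x : H) :
    ((restrict ξ H hH ^ k) x : P) = (ξ ^ k) x := by
  induction k with
  | zero => simp
  | succ k ih => rw [pow_succ', pow_succ', MulAut.mul_apply, MulAut.mul_apply, restrict_apply, ih]

namespace Hyp

omit [Field F]

theorem restrict [Finite P] (h : Hyp F ξ) (H : Subgroup P) (hH : ∀ x ∈ H, ξ x ∈ H) :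
    Hyp F (restrict ξ H hH) where
  finite := inferInstance
  two := h.two.to_subgroup H
  card_gt := h.card_gt
  pow_card := by
    ext x
    rw [restrict_pow_apply, h.pow_card]
    rfl
  trans x y hx1 hx hy1 hy := by
    obtain ⟨k, hk⟩ := h.trans x y (fun e => hx1 (Subtype.ext e)) (congrArg Subtype.val hx)
      (fun e => hy1 (Subtype.ext e)) (congrArg Subtype.val hy)
    exact ⟨k, Subtype.ext (by rw [restrict_pow_apply, hk])⟩
  free k x hx1 hx hk := h.free k x (fun e => hx1 (Subtype.ext e)) (congrArg Subtype.val hx)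
    (by rw [← restrict_pow_apply H hH, hk])

theorem exists_pow (h : Hyp F ξ) (x : P) : ∃ k : ℕ, x ^ 2 ^ k = 1 := h.two x

/-- A non-identity element has an involution among its powers. -/
theorem exists_invol (h : Hyp F ξ) {x : P} (hx : x ≠ 1) :
    ∃ k : ℕ, x ^ 2 ^ k ≠ 1 ∧ x ^ 2 ^ k * x ^ 2 ^ k = 1 := by
  classical
  have hex := h.exists_pow x
  have h0 : Nat.find hex ≠ 0 := by
    intro h0
    have := Nat.find_spec hex
    rw [h0] at this
    exact hx (by simpa using this)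
  obtain ⟨k, hk⟩ := Nat.exists_eq_succ_of_ne_zero h0
  refine ⟨k, Nat.find_min hex (by omega), ?_⟩
  have := Nat.find_spec hex
  rwa [hk, pow_succ, pow_mul, pow_two] at this

theorem mem_of_invol (h : Hyp F ξ) {H : Subgroup P} (hH : ∀ x ∈ H, ξ x ∈ H) {y : P} (hy : y ∈ H)
    (hy1 : y ≠ 1) {x : P} (hx : x * x = 1) : x ∈ H := by
  by_cases hx1 : x = 1
  · rw [hx1]; exact one_mem _
  obtain ⟨k, hk1, hk⟩ := h.exists_invol hy1
  obtain ⟨j, rfl⟩ := h.trans _ x hk1 hk hx1 hx
  exact pow_mem_of_inv hH j (pow_mem hy _)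

theorem mem_center (h : Hyp F ξ) {x : P} (hx : x * x = 1) : x ∈ Subgroup.center P := by
  have := h.finite
  by_cases hx1 : x = 1
  · rw [hx1]; exact one_mem _
  have : Nontrivial P := ⟨x, 1, hx1⟩
  have := h.two.center_nontrivial
  obtain ⟨⟨z, hz⟩, hz1⟩ := exists_ne (1 : Subgroup.center P)
  refine h.mem_of_invol (fun x hx => ?_) hz (fun e => hz1 (Subtype.ext e)) hx
  rw [Subgroup.mem_center_iff] at hx ⊢
  intro g
  obtain ⟨g, rfl⟩ := ξ.surjective g
  rw [← map_mul, hx, map_mul]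

theorem comm (h : Hyp F ξ) {x : P} (hx : x * x = 1) (y : P) : y * x = x * y :=
  Subgroup.mem_center_iff.mp (h.mem_center hx) y

/-- The subgroup of elements of order at most two. -/
def omega (h : Hyp F ξ) : Subgroup P where
  carrier := {x | x * x = 1}
  mul_mem' {x y} hx hy := by
    simp only [Set.mem_ofPred_eq] at hx hy ⊢
    rw [mul_assoc, ← mul_assoc y, h.comm hx y, mul_assoc, hy, mul_one, hx]
  one_mem' := mul_one 1
  inv_mem' {x} hx := by
    simp only [Set.mem_ofPred_eq] at hx ⊢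
    rw [← mul_inv_rev, hx, inv_one]

theorem mem_omega (h : Hyp F ξ) {x : P} : x ∈ h.omega ↔ x * x = 1 := Iff.rfl

theorem omega_inv (h : Hyp F ξ) : ∀ x ∈ h.omega, ξ x ∈ h.omega := fun x hx => by
  rw [mem_omega] at hx ⊢
  rw [← map_mul, hx, map_one]

theorem omega_normal (h : Hyp F ξ) : h.omega.Normal :=
  ⟨fun x hx g => by rw [h.comm hx g, mul_inv_cancel_right]; exact hx⟩

/-- The powers of `ξ` act semiregularly on every invariant section. -/
theorem free_mod (h : Hyp F ξ) {Y : Subgroup P} (hY : ∀ x ∈ Y, ξ x ∈ Y) {k : ℕ} {x : P}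
    (hx : x ∉ Y) (hk : x⁻¹ * (ξ ^ k) x ∈ Y) : Fintype.card F - 1 ∣ k := by
  have := h.finite
  by_contra hdvd
  have hfix : ∀ y, (ξ ^ k) y = y → y = 1 := by
    intro y hy
    by_contra hy1
    obtain ⟨j, hj1, hj⟩ := h.exists_invol hy1
    exact hdvd (h.free k _ hj1 hj (by rw [map_pow, hy]))
  let φ : Y → Y := fun y => ⟨y⁻¹ * (ξ ^ k) y, mul_mem (inv_mem y.2) (pow_mem_of_inv hY k y.2)⟩
  have key : ∀ a b : P, a⁻¹ * (ξ ^ k) a = b⁻¹ * (ξ ^ k) b → a = b := by
    intro a b hab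
    have : (ξ ^ k) (a * b⁻¹) = a * b⁻¹ := by
      rw [map_mul, map_inv]
      calc (ξ ^ k) a * ((ξ ^ k) b)⁻¹ = a * (a⁻¹ * (ξ ^ k) a) * ((ξ ^ k) b)⁻¹ := by group
        _ = a * b⁻¹ := by rw [hab]; group
    exact mul_inv_eq_one.mp (hfix _ this)
  have hinj : Function.Injective φ := fun a b hab =>
    Subtype.ext (key _ _ (congrArg Subtype.val hab))
  obtain ⟨y, hy⟩ := Finite.injective_iff_surjective.mp hinj ⟨_, hk⟩
  exact hx (key _ _ (congrArg Subtype.val hy) ▸ y.2)

end Hyp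

theorem commutator_eq_sq (u v : P) :
    ⁅u, v⁆ = (u * u) * ((u⁻¹ * v) * (u⁻¹ * v)) * (v⁻¹ * v⁻¹) := by
  rw [commutatorElement_def]; group

/-- An elementary abelian invariant quotient is generated by its lines. -/
theorem Hyp.eq_top_of_coord [CharP F 2] (h : Hyp F ξ) (Y : Subgroup P) [Y.Normal]
    (hY : ∀ x ∈ Y, ξ x ∈ Y) (hsq : ∀ x, x * x ∈ Y) (S : Subgroup P) (hYS : Y ≤ S)
    (hS : ∀ (C : Subgroup P) (a : F) (f : P → F), Coord ξ C Y a f → C ≤ S) : S = ⊤ := by
  classical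
  let : CommGroup (P ⧸ Y) :=
    { (inferInstance : Group (P ⧸ Y)) with
      mul_comm := fun a b => by
        obtain ⟨a, rfl⟩ := QuotientGroup.mk_surjective a
        obtain ⟨b, rfl⟩ := QuotientGroup.mk_surjective b
        rw [← QuotientGroup.mk_mul, ← QuotientGroup.mk_mul, QuotientGroup.eq]
        have := commutator_eq_sq b⁻¹ a⁻¹
        rw [commutatorElement_def, inv_inv a, inv_inv b] at this
        rw [mul_inv_rev, ← mul_assoc, this]
        exact mul_mem (mul_mem (hsq _) (hsq _)) (hsq _) }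
  let : Module (ZMod 2) (Additive (P ⧸ Y)) := AddCommGroup.zmodModule (fun x => by
    obtain ⟨a, ha⟩ := QuotientGroup.mk_surjective x.toMul
    apply Additive.toMul.injective
    rw [toMul_nsmul, ← ha, pow_two, ← QuotientGroup.mk_mul, toMul_zero, QuotientGroup.eq_one_iff]
    exact hsq a)
  let π : P → Additive (P ⧸ Y) := fun x => Additive.ofMul (QuotientGroup.mk x)
  have hπ : Function.Surjective π := fun w => QuotientGroup.mk_surjective w.toMul
  have hπmul : ∀ x y, π (x * y) = π x + π y := fun x y => rfl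
  have hπinv : ∀ x, π x⁻¹ = -π x := fun x => rfl
  have hπeq : ∀ x y, π x = π y ↔ x⁻¹ * y ∈ Y := fun x y => QuotientGroup.eq
  have hπ0 : ∀ x, π x = 0 ↔ x ∈ Y := fun x => QuotientGroup.eq_one_iff x
  let T : AddMonoid.End (Additive (P ⧸ Y)) :=
    MonoidHom.toAdditive (QuotientGroup.map Y Y ξ.toMonoidHom hY)
  have hT1 : ∀ x, T (π x) = π (ξ x) := fun x => rfl
  have hTk : ∀ (k : ℕ) x, (T ^ k) (π x) = π ((ξ ^ k) x) := by
    intro k x
    induction k with
    | zero => rfl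
    | succ k ih =>
      rw [pow_succ', pow_succ', MulAut.mul_apply, ← hT1, ← ih]
      rfl
  let S' : AddSubgroup (Additive (P ⧸ Y)) :=
    { carrier := π '' S
      add_mem' := by
        rintro _ _ ⟨x, hx, rfl⟩ ⟨y, hy, rfl⟩
        exact ⟨x * y, mul_mem hx hy, rfl⟩
      zero_mem' := ⟨1, one_mem _, rfl⟩
      neg_mem' := by
        rintro _ ⟨x, hx, rfl⟩
        exact ⟨x⁻¹, inv_mem hx, rfl⟩ }
  have hS' : S' = ⊤ := by
    refine eq_top_of_lines (F := F) T ?_ ?_ S' ?_
    · ext w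
      obtain ⟨x, rfl⟩ := hπ w
      rw [hTk, h.pow_card]
      rfl
    · intro k w hw hk
      obtain ⟨x, rfl⟩ := hπ w
      rw [hTk, eq_comm, hπeq] at hk
      exact h.free_mod hY (fun hx => hw ((hπ0 x).mpr hx)) hk
    · intro a g ha hg hga
      let C : Subgroup P :=
        { carrier := {x | π x ∈ g.range}
          mul_mem' := fun {x y} hx hy => (add_mem hx hy : π x + π y ∈ g.range)
          one_mem' := zero_mem g.range
          inv_mem' := fun {x} hx => (neg_mem hx : -π x ∈ g.range) }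
      have hf : ∀ x ∈ C, g (Function.invFun g (π x)) = π x := fun x hx => Function.invFun_eq hx
      have hC : Coord ξ C Y a (fun x => Function.invFun g (π x)) :=
        { le := fun x hx => ⟨0, by rw [map_zero, eq_comm, hπ0]; exact hx⟩
          inv := by
            rintro x ⟨t, ht⟩
            exact ⟨a * t, by rw [hga, ht, hT1]⟩
          map_mul := fun x hx y hy => hg (by
            rw [map_add, hf _ hx, hf _ hy, hf _ (mul_mem hx hy), hπmul])
          ker := fun x hx => by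
            rw [← hπ0, ← map_eq_zero_iff g hg, hf _ hx]
          surj := fun t => by
            obtain ⟨x, hx⟩ := hπ (g t)
            have hxC : x ∈ C := ⟨t, hx.symm⟩
            exact ⟨x, hxC, hg (by rw [hf _ hxC, hx])⟩
          equiv := fun x hx => hg (by
            rw [hga, hf _ hx, hT1]
            obtain ⟨t, ht⟩ := hx
            exact hf _ ⟨a * t, by rw [hga, ht, hT1]⟩)
          prim := ha }
      rintro _ ⟨t, rfl⟩
      obtain ⟨x, hx⟩ := hπ (g t)
      exact ⟨x, hS C a _ hC ⟨t, hx.symm⟩, hx⟩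
  rw [eq_top_iff]
  intro x _
  obtain ⟨y, hy, hxy⟩ : π x ∈ S' := hS' ▸ AddSubgroup.mem_top _
  rw [hπeq] at hxy
  have := mul_mem hy (hYS hxy)
  rwa [mul_inv_cancel_left] at this

namespace Coord

variable {C Y C' Y' : Subgroup P} {a a' : F} {f f' : P → F}

theorem map_one (h : Coord ξ C Y a f) : f 1 = 0 := (h.ker 1 (one_mem _)).mpr (one_mem _)

theorem map_inv (h : Coord ξ C Y a f) {x : P} (hx : x ∈ C) : f x⁻¹ = -f x := by
  have := h.map_mul x hx x⁻¹ (inv_mem hx)
  rw [mul_inv_cancel, h.map_one] at this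
  exact (neg_eq_of_add_eq_zero_right this.symm).symm

theorem eq_iff (h : Coord ξ C Y a f) {x y : P} (hx : x ∈ C) (hy : y ∈ C) :
    f x = f y ↔ x⁻¹ * y ∈ Y := by
  rw [← h.ker _ (mul_mem (inv_mem hx) hy), h.map_mul _ (inv_mem hx) _ hy, h.map_inv hx,
    neg_add_eq_zero]

theorem exists_fun {Z : Type*} (h : Coord ξ C Y a f) (Q : P → Z)
    (hQ : ∀ x ∈ C, ∀ y ∈ Y, Q (x * y) = Q x) : ∃ q : F → Z, ∀ x ∈ C, q (f x) = Q x := by
  choose s hs hfs using h.surj
  refine ⟨fun t => Q (s t), fun x hx => ?_⟩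
  have := hQ x hx _ ((h.eq_iff hx (hs (f x))).mp (hfs _).symm)
  rwa [mul_inv_cancel_left] at this

theorem exists_biadd {Z : Type*} [AddCommGroup Z] (h : Coord ξ C Y a f) (h' : Coord ξ C' Y' a' f')
    (B : P → P → Z)
    (hl : ∀ x ∈ C, ∀ x' ∈ C, ∀ y ∈ C', B (x * x') y = B x y + B x' y)
    (hr : ∀ x ∈ C, ∀ y ∈ C', ∀ y' ∈ C', B x (y * y') = B x y + B x y')
    (h0l : ∀ x ∈ Y, ∀ y ∈ C', B x y = 0) (h0r : ∀ x ∈ C, ∀ y ∈ Y', B x y = 0) :
    ∃ β : F →+ F →+ Z, ∀ x ∈ C, ∀ y ∈ C', β (f x) (f' y) = B x y := by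
  choose s hs hfs using h.surj
  choose s' hs' hfs' using h'.surj
  have e1 : ∀ x ∈ C, ∀ y ∈ C', B (s (f x)) y = B x y := by
    intro x hx y hy
    have hm := (h.eq_iff hx (hs (f x))).mp (hfs _).symm
    have := hl x hx _ (h.le hm) y hy
    rwa [mul_inv_cancel_left, h0l _ hm y hy, add_zero] at this
  have e2 : ∀ x ∈ C, ∀ y ∈ C', B x (s' (f' y)) = B x y := by
    intro x hx y hy
    have hm := (h'.eq_iff hy (hs' (f' y))).mp (hfs' _).symm
    have := hr x hx y hy _ (h'.le hm)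
    rwa [mul_inv_cancel_left, h0r x hx _ hm, add_zero] at this
  refine ⟨AddMonoidHom.mk' (fun t => AddMonoidHom.mk' (fun u => B (s t) (s' u)) (fun u v => ?_))
    (fun t t' => ?_), fun x hx y hy => ?_⟩
  · rw [← hr _ (hs t) _ (hs' u) _ (hs' v), ← e2 _ (hs t) _ (mul_mem (hs' u) (hs' v)),
      h'.map_mul _ (hs' u) _ (hs' v), hfs', hfs']
  · ext u
    simp only [AddMonoidHom.mk'_apply, AddMonoidHom.add_apply]
    rw [← hl _ (hs t) _ (hs t') _ (hs' u), ← e1 _ (mul_mem (hs t) (hs t')) _ (hs' u),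
      h.map_mul _ (hs t) _ (hs t'), hfs, hfs]
  · simp only [AddMonoidHom.mk'_apply]
    rw [e1 _ hx _ (hs' _), e2 _ hx _ hy]

/-- A line is a minimal invariant subgroup above `Y`. -/
theorem le_of_mem (h : Coord ξ C Y a f) {H : Subgroup P} (hYH : Y ≤ H) (hH : ∀ x ∈ H, ξ x ∈ H)
    {x : P} (hxC : x ∈ C) (hxH : x ∈ H) (hxY : x ∉ Y) : C ≤ H := by
  intro y hy
  obtain ⟨z, ⟨hzC, hzH⟩, hz⟩ := h.prim.mem_of_mem (f '' {x | x ∈ C ∧ x ∈ H})
    ⟨1, ⟨one_mem _, one_mem _⟩, h.map_one⟩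
    (by
      rintro _ ⟨z, ⟨hzC, hzH⟩, rfl⟩
      exact ⟨ξ z, ⟨h.inv z hzC, hH z hzH⟩, h.equiv z hzC⟩)
    ⟨x, ⟨hxC, hxH⟩, rfl⟩ (fun h0 => hxY ((h.ker x hxC).mp h0)) (f y)
  have := mul_mem hzH (hYH ((h.eq_iff hzC hy).mp hz))
  rwa [mul_inv_cancel_left] at this

theorem relIndex (h : Coord ξ C Y a f) : Y.relIndex C = Fintype.card F := by
  let φ : C →* Multiplicative F := MonoidHom.mk' (fun x => Multiplicative.ofAdd (f x))
    (fun x y => congrArg Multiplicative.ofAdd (h.map_mul x x.2 y y.2))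
  have hker : φ.ker = Y.subgroupOf C := by
    ext x
    exact h.ker x x.2
  have hr : φ.range = ⊤ := by
    rw [MonoidHom.range_eq_top]
    intro t
    obtain ⟨x, hx, hxt⟩ := h.surj t.toAdd
    exact ⟨⟨x, hx⟩, congrArg Multiplicative.ofAdd hxt⟩
  rw [Subgroup.relIndex, ← hker, Subgroup.index_ker, hr, Subgroup.card_top,
    Nat.card_eq_fintype_card, Fintype.card_multiplicative]

theorem card (h : Coord ξ C Y a f) : Nat.card C = Fintype.card F * Nat.card Y := by
  rw [← h.relIndex, Subgroup.relIndex, ← Subgroup.index_mul_card (Y.subgroupOf C),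
    Nat.card_congr (Subgroup.subgroupOfEquivOfLe h.le).toEquiv]

theorem exists_not_mem (h : Coord ξ C Y a f) : ∃ x ∈ C, x ∉ Y := by
  obtain ⟨x, hx, hx1⟩ := h.surj 1
  exact ⟨x, hx, fun hY => one_ne_zero (hx1.symm.trans ((h.ker x hx).mpr hY))⟩

end Coord

/-- Coordinates on the subgroup of elements of order at most two. -/
theorem Hyp.exists_coord_omega [CharP F 2] (h : Hyp F ξ) [Nontrivial P] :
    ∃ (lam : F) (f : P → F), Coord ξ h.omega ⊥ lam f := by
  classical
  have := h.finite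
  have h' := h.restrict h.omega h.omega_inv
  obtain ⟨x₀, hx₀⟩ := exists_ne (1 : P)
  obtain ⟨k, hk1, hk⟩ := h.exists_invol hx₀
  obtain ⟨C, a, f, hC⟩ : ∃ (C : Subgroup h.omega) (a : F) (f : h.omega → F),
      Coord (CL.Suz2.restrict ξ h.omega h.omega_inv) C ⊥ a f := by
    by_contra hcon
    have := h'.eq_top_of_coord ⊥ (fun x hx => by rw [Subgroup.mem_bot.mp hx, map_one]; exact one_mem _)
      (fun x => Subgroup.mem_bot.mpr (Subtype.ext x.2)) ⊥ le_rfl
      (fun C a f hC => absurd ⟨C, a, f, hC⟩ hcon)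
    have h2 : (⟨_, hk⟩ : h.omega) ∈ (⊥ : Subgroup h.omega) := this ▸ Subgroup.mem_top _
    exact hk1 (congrArg Subtype.val (Subgroup.mem_bot.mp h2))
  obtain ⟨y, hyC, hy1⟩ := hC.exists_not_mem
  have hall : ∀ x : h.omega, x ∈ C := fun x =>
    h'.mem_of_invol hC.inv hyC (fun e => hy1 (Subgroup.mem_bot.mpr e)) (Subtype.ext x.2)
  refine ⟨a, fun x => if hx : x ∈ h.omega then f ⟨x, hx⟩ else 0, bot_le, h.omega_inv, ?_, ?_, ?_, ?_,
    hC.prim⟩
  · intro x hx y hy
    rw [dif_pos hx, dif_pos hy, dif_pos (mul_mem hx hy), ← hC.map_mul _ (hall _) _ (hall _)]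
    rfl
  · intro x hx
    rw [dif_pos hx, hC.ker _ (hall _), Subgroup.mem_bot, Subgroup.mem_bot, Subtype.ext_iff]
    rfl
  · intro t
    obtain ⟨x, -, hx⟩ := hC.surj t
    exact ⟨x, x.2, by rw [dif_pos x.2, hx]⟩
  · intro x hx
    rw [dif_pos hx, dif_pos (h.omega_inv x hx), ← hC.equiv _ (hall _)]
    rfl

end CL.Suz2
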