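import Cfsg.Agent.Base
import Cfsg.Agent.Suz2.Hyp

/-!
Abelian invariant subgroups: they are homocyclic; coordinates on their layers.
-/

set_option autoImplicit false

namespace CL.Suz2

open scoped commutatorElement

variable {F : Type*} [Field F] [Fintype F] {P : Type*} [Group P] {ξ : MulAut P}

/-- The squares of an abelian subgroup. -/
def sqSub (B : Subgroup P) (hB : ∀ x ∈ B, ∀ y ∈ B, x * y = y * x) : Subgroup P where
  carrier := {x | ∃ b ∈ B, b * b = x}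
  mul_mem' := by
    rintro _ _ ⟨a, ha, rfl⟩ ⟨b, hb, rfl⟩
    exact ⟨a * b, mul_mem ha hb, by
      rw [mul_assoc, ← mul_assoc b, ← hB a ha b hb]; simp only [mul_assoc]⟩
  one_mem' := ⟨1, one_mem _, mul_one 1⟩
  inv_mem' := by
    rintro _ ⟨a, ha, rfl⟩
    exact ⟨a⁻¹, inv_mem ha, by rw [mul_inv_rev]⟩

theorem mul_self_pow (x : P) (j : ℕ) : (x * x) ^ 2 ^ j = x ^ 2 ^ (j + 1) := by
  rw [← pow_two, ← pow_mul, ← pow_succ']

theorem pow_mul_pow_self (x : P) (j : ℕ) : x ^ 2 ^ j * x ^ 2 ^ j = x ^ 2 ^ (j + 1) := by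
  rw [← pow_two, ← pow_mul, ← pow_succ]

omit [Field F] in
theorem Hyp.mem_of_level (h : Hyp F ξ) {A : Subgroup P} (hAc : ∀ x ∈ A, ∀ y ∈ A, x * y = y * x)
    (j : ℕ) : ∀ B : Subgroup P, B ≤ A → (∀ x ∈ B, ξ x ∈ B) → (∃ b ∈ B, b ^ 2 ^ j ≠ 1) →
      ∀ x ∈ A, x ^ 2 ^ (j + 1) = 1 → x ∈ B := by
  induction j with
  | zero =>
    rintro B - hB ⟨b, hb, hb1⟩ x - hx
    exact h.mem_of_invol hB hb (by simpa using hb1) (by simpa [pow_two] using hx)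
  | succ j ih =>
    rintro B hBA hB ⟨b, hb, hb1⟩ x hxA hx
    have hBc : ∀ x ∈ B, ∀ y ∈ B, x * y = y * x := fun x hx y hy => hAc x (hBA hx) y (hBA hy)
    obtain ⟨c, hc, hcx⟩ := ih (sqSub B hBc)
      (by rintro _ ⟨a, ha, rfl⟩; exact hBA (mul_mem ha ha))
      (by rintro _ ⟨a, ha, rfl⟩; exact ⟨ξ a, hB a ha, by rw [map_mul]⟩)
      ⟨b * b, ⟨b, hb, rfl⟩, by rwa [mul_self_pow]⟩ (x * x) (mul_mem hxA hxA) (by rwa [mul_self_pow])
    have h1 : x * c⁻¹ ∈ B := h.mem_of_invol hB hb (by rintro rfl; simp at hb1) (by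
      rw [mul_assoc, ← mul_assoc c⁻¹, ← hAc x hxA c⁻¹ (hBA (inv_mem hc)), mul_assoc, ← mul_assoc,
        ← hcx]
      group)
    simpa using mul_mem h1 hc

theorem eq_bot_of_le_commutator [Group.IsNilpotent P] (D : Subgroup P) (hD : D ≤ ⁅D, ⊤⁆) :
    D = ⊥ := by
  obtain ⟨n, hn⟩ := Subgroup.nilpotent_iff_lowerCentralSeries.mp ‹Group.IsNilpotent P›
  have : ∀ n, D ≤ Subgroup.lowerCentralSeries ⊤ n := by
    intro n
    induction n with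
    | zero => exact le_top
    | succ n ih => exact hD.trans (Subgroup.commutator_mono ih le_rfl)
  exact le_bot_iff.mp (hn ▸ this n)

omit [Field F] in
/-- Higman's Lemma 2. -/
theorem Hyp.mem_of_sq (h : Hyp F ξ) {C : Subgroup P} (hCc : ∀ x ∈ C, ∀ y ∈ C, x * y = y * x)
    (hΩ : ∀ x, x * x = 1 → x ∈ C) {u : P} (hu : ∃ d ∈ C, u * u = d * d)
    (hc : ∀ c ∈ C, ∃ e ∈ C, u⁻¹ * c * u = c * e ^ 4) : u ∈ C := by
  have key : ∀ k : ℕ, ∃ c ∈ C, ∃ d ∈ C, (u * c) * (u * c) = d ^ 2 ^ (k + 1) := by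
    intro k
    induction k with
    | zero =>
      obtain ⟨d, hd, hud⟩ := hu
      exact ⟨1, one_mem _, d, hd, by simpa [pow_two] using hud⟩
    | succ k ih =>
      obtain ⟨c, hcC, d, hd, hcd⟩ := ih
      obtain ⟨e, he, hde⟩ := hc d hd
      have hx : (d ^ 2 ^ k)⁻¹ ∈ C := inv_mem (pow_mem hd _)
      refine ⟨c * (d ^ 2 ^ k)⁻¹, mul_mem hcC hx, e⁻¹, inv_mem he, ?_⟩
      have h1 : u⁻¹ * (d ^ 2 ^ k)⁻¹ * u = ((d * e ^ 4) ^ 2 ^ k)⁻¹ := by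
        rw [← hde]
        have := conj_pow (a := u⁻¹) (b := d) (i := 2 ^ k)
        rw [inv_inv] at this
        rw [this]
        group
      have h2 : (u * (c * (d ^ 2 ^ k)⁻¹)) * (u * (c * (d ^ 2 ^ k)⁻¹)) =
          (u * c) * (u * c) * (c⁻¹ * (u⁻¹ * (d ^ 2 ^ k)⁻¹ * u) * c) * (d ^ 2 ^ k)⁻¹ := by group
      rw [h2, h1, hcd]
      let : CommGroup C :=
        { (inferInstance : Group C) with mul_comm := fun a b => Subtype.ext (hCc a a.2 b b.2) }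
      have h3 : ∀ c d e : C, d ^ 2 ^ (k + 1) * (c⁻¹ * ((d * e ^ 4) ^ 2 ^ k)⁻¹ * c) * (d ^ 2 ^ k)⁻¹ =
          e⁻¹ ^ 2 ^ (k + 1 + 1) := by
        intro c d e
        rw [mul_comm c⁻¹, inv_mul_cancel_right, mul_pow, ← pow_mul, pow_succ 2 k, pow_mul, pow_two,
          inv_pow, show 2 ^ (k + 1 + 1) = 4 * 2 ^ k by ring, mul_inv_rev,
          mul_comm (e ^ (4 * 2 ^ k))⁻¹]
        generalize d ^ 2 ^ k = x
        generalize e ^ (4 * 2 ^ k) = y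
        rw [mul_assoc x, mul_inv_cancel_left, mul_comm x, mul_inv_cancel_right]
      exact congrArg Subtype.val (h3 ⟨c, hcC⟩ ⟨d, hd⟩ ⟨e, he⟩)
  have := h.finite
  obtain ⟨k, hk⟩ := IsPGroup.iff_card.mp h.two
  obtain ⟨c, hcC, d, -, hcd⟩ := key k
  rw [pow_succ, pow_mul, ← hk, pow_card_eq_one', one_pow] at hcd
  simpa using mul_mem (hΩ _ hcd) (inv_mem hcC)

/-- An abelian normal invariant subgroup, with coordinates on the involutions. -/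
structure Setup (F : Type*) [Field F] [Fintype F] {P : Type*} [Group P] (ξ : MulAut P) where
  h : Hyp F ξ
  A : Subgroup P
  normal : A.Normal
  inv : ∀ x ∈ A, ξ x ∈ A
  comm : ∀ x ∈ A, ∀ y ∈ A, x * y = y * x
  lam : F
  f : P → F
  coord : Coord ξ h.omega ⊥ lam f

namespace Setup

variable (S : Setup F ξ)

/-- The elements of `A` of order dividing `2 ^ j`. -/
def lev (j : ℕ) : Subgroup P where
  carrier := {x | x ∈ S.A ∧ x ^ 2 ^ j = 1}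
  mul_mem' {x y} hx hy := ⟨mul_mem hx.1 hy.1, by
    rw [Commute.mul_pow (S.comm x hx.1 y hy.1), hx.2, hy.2, mul_one]⟩
  one_mem' := ⟨one_mem _, one_pow _⟩
  inv_mem' {x} hx := ⟨inv_mem hx.1, by rw [inv_pow, hx.2, inv_one]⟩

theorem mem_lev {j : ℕ} {x : P} : x ∈ S.lev j ↔ x ∈ S.A ∧ x ^ 2 ^ j = 1 := Iff.rfl

theorem lev_le (j : ℕ) : S.lev j ≤ S.A := fun _ hx => hx.1

theorem lev_succ {j : ℕ} {x : P} (hx : x ∈ S.lev j) : x ∈ S.lev (j + 1) :=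
  ⟨hx.1, by rw [pow_succ, pow_mul, hx.2, one_pow]⟩

theorem lev_inv (j : ℕ) : ∀ x ∈ S.lev j, ξ x ∈ S.lev j := fun x hx =>
  ⟨S.inv x hx.1, by rw [← map_pow, hx.2, map_one]⟩

theorem lev_normal (j : ℕ) : (S.lev j).Normal :=
  ⟨fun x hx g => ⟨S.normal.conj_mem x hx.1 g, by rw [conj_pow, hx.2, mul_one, mul_inv_cancel]⟩⟩

theorem sq_mem_lev {j : ℕ} {x : P} (hx : x ∈ S.lev (j + 1)) : x * x ∈ S.lev j :=
  ⟨mul_mem hx.1 hx.1, by rw [mul_self_pow, hx.2]⟩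

theorem comm_mem_lev {j : ℕ} {a : P} (ha : a ∈ S.lev (j + 1)) (u : P) : ⁅u, a⁆ ∈ S.lev j := by
  have := S.h.finite
  have := S.h.two.isNilpotent
  have := S.lev_normal (j + 1)
  have hle : ⁅S.lev (j + 1), ⊤⁆ ≤ S.lev (j + 1) := Subgroup.commutator_le_left _ _
  have hmem : ⁅u, a⁆ ∈ ⁅S.lev (j + 1), (⊤ : Subgroup P)⁆ := by
    rw [← commutatorElement_inv]
    exact inv_mem (Subgroup.commutator_mem_commutator ha (Subgroup.mem_top u))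
  refine ⟨(hle hmem).1, ?_⟩
  by_contra hne
  have h1 := S.h.mem_of_level S.comm j ⁅S.lev (j + 1), ⊤⁆ (hle.trans (S.lev_le _)) (fun x hx => by
    have : (⁅S.lev (j + 1), (⊤ : Subgroup P)⁆).map ξ.toMonoidHom ≤ ⁅S.lev (j + 1), ⊤⁆ := by
      rw [Subgroup.map_commutator]
      refine Subgroup.commutator_mono ?_ le_top
      rintro _ ⟨y, hy, rfl⟩
      exact S.lev_inv _ y hy
    exact this ⟨x, hx, rfl⟩) ⟨_, hmem, hne⟩
  have h2 := eq_bot_of_le_commutator (S.lev (j + 1)) (fun x hx => h1 x hx.1 hx.2)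
  have h3 := hle hmem
  rw [h2, Subgroup.mem_bot] at h3
  exact hne (by rw [h3, one_pow])

/-- The coordinate on the layer `lev (j + 1) / lev j`. -/
def m (j : ℕ) (x : P) : F := S.f (x ^ 2 ^ j)

theorem pow_mem_omega {j : ℕ} {x : P} (hx : x ∈ S.lev (j + 1)) : x ^ 2 ^ j ∈ S.h.omega := by
  rw [Hyp.mem_omega, pow_mul_pow_self, hx.2]

theorem m_mul {j : ℕ} {x y : P} (hx : x ∈ S.lev (j + 1)) (hy : y ∈ S.lev (j + 1)) :
    S.m j (x * y) = S.m j x + S.m j y := by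
  rw [m, Commute.mul_pow (S.comm x hx.1 y hy.1),
    S.coord.map_mul _ (S.pow_mem_omega hx) _ (S.pow_mem_omega hy)]
  rfl

theorem m_eq_zero_iff {j : ℕ} {x : P} (hx : x ∈ S.lev (j + 1)) : S.m j x = 0 ↔ x ∈ S.lev j := by
  rw [m, S.coord.ker _ (S.pow_mem_omega hx), Subgroup.mem_bot, mem_lev]
  exact ⟨fun h => ⟨hx.1, h⟩, fun h => h.2⟩

theorem m_eq_zero {j : ℕ} {x : P} (hx : x ∈ S.lev j) : S.m j x = 0 :=
  (S.m_eq_zero_iff (S.lev_succ hx)).mpr hx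

theorem m_xi {j : ℕ} {x : P} (hx : x ∈ S.lev (j + 1)) : S.m j (ξ x) = S.lam * S.m j x := by
  rw [m, ← map_pow, S.coord.equiv _ (S.pow_mem_omega hx)]
  rfl

theorem m_sq (j : ℕ) (x : P) : S.m j (x * x) = S.m (j + 1) x := by
  rw [m, mul_self_pow]
  rfl

variable [CharP F 2]

theorem m_inv {j : ℕ} {x : P} (hx : x ∈ S.lev (j + 1)) : S.m j x⁻¹ = S.m j x := by
  rw [m, inv_pow, S.coord.map_inv (S.pow_mem_omega hx), CharTwo.neg_eq]
  rfl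

theorem m_comm_symm {j : ℕ} {x y : P} (h : ⁅x, y⁆ ∈ S.lev (j + 1)) :
    S.m j ⁅y, x⁆ = S.m j ⁅x, y⁆ := by
  rw [← commutatorElement_inv, S.m_inv h]

omit [CharP F 2] in
theorem comm_symm_mem {j : ℕ} {x y : P} (h : ⁅x, y⁆ ∈ S.lev j) : ⁅y, x⁆ ∈ S.lev j := by
  rw [← commutatorElement_inv]
  exact inv_mem h

omit [CharP F 2] in
theorem m_comm_mul_left {j : ℕ} {x x' y : P} (h1 : ⁅x, y⁆ ∈ S.lev (j + 1))
    (h2 : ⁅x', y⁆ ∈ S.lev (j + 1)) : S.m j ⁅x * x', y⁆ = S.m j ⁅x, y⁆ + S.m j ⁅x', y⁆ := by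
  have e : ⁅x * x', y⁆ = ⁅x, ⁅x', y⁆⁆ * ⁅x', y⁆ * ⁅x, y⁆ := by
    simp only [commutatorElement_def]; group
  have h3 := S.comm_mem_lev h2 x
  rw [e, S.m_mul (mul_mem (S.lev_succ h3) h2) h1, S.m_mul (S.lev_succ h3) h2, S.m_eq_zero h3,
    zero_add, add_comm]

omit [CharP F 2] in
theorem comm_mul_left_mem {j : ℕ} {x x' y : P} (h1 : ⁅x, y⁆ ∈ S.lev j)
    (h2 : ⁅x', y⁆ ∈ S.lev j) : ⁅x * x', y⁆ ∈ S.lev j := by
  have e : ⁅x * x', y⁆ = x * ⁅x', y⁆ * x⁻¹ * ⁅x, y⁆ := by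
    simp only [commutatorElement_def]; group
  rw [e]
  exact mul_mem ((S.lev_normal j).conj_mem _ h2 x) h1

theorem m_comm_mul_right {j : ℕ} {x y y' : P} (h1 : ⁅x, y⁆ ∈ S.lev (j + 1))
    (h2 : ⁅x, y'⁆ ∈ S.lev (j + 1)) : S.m j ⁅x, y * y'⁆ = S.m j ⁅x, y⁆ + S.m j ⁅x, y'⁆ := by
  have h1' := S.comm_symm_mem h1
  have h2' := S.comm_symm_mem h2
  rw [S.m_comm_symm (S.comm_mul_left_mem h1' h2'), S.m_comm_mul_left h1' h2', S.m_comm_symm h1,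
    S.m_comm_symm h2]

omit [CharP F 2] in
theorem exists_sq {j : ℕ} (hex : ∃ a ∈ S.A, a ^ 2 ^ (j + 1) ≠ 1) {x : P} (hx : x ∈ S.lev (j + 1)) :
    ∃ b ∈ S.A, b * b = x := by
  obtain ⟨a, ha, ha1⟩ := hex
  exact S.h.mem_of_level S.comm j (sqSub S.A S.comm)
    (by rintro _ ⟨a, ha, rfl⟩; exact mul_mem ha ha)
    (by rintro _ ⟨a, ha, rfl⟩; exact ⟨ξ a, S.inv a ha, by rw [map_mul]⟩)
    ⟨a * a, ⟨a, ha, rfl⟩, by rwa [mul_self_pow]⟩ x hx.1 hx.2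

omit [CharP F 2] in
theorem coord_lev {j : ℕ} {a : P} (ha : a ∈ S.lev (j + 1)) (ha1 : a ∉ S.lev j) :
    Coord ξ (S.lev (j + 1)) (S.lev j) S.lam (S.m j) where
  le _ hx := S.lev_succ hx
  inv := S.lev_inv _
  map_mul _ hx _ hy := S.m_mul hx hy
  ker _ hx := S.m_eq_zero_iff hx
  surj t := by
    obtain ⟨x, hx, hxt⟩ := S.coord.prim.mem_of_mem (S.m j '' (S.lev (j + 1)))
      ⟨1, one_mem _, S.m_eq_zero (one_mem _)⟩
      (by
        rintro _ ⟨x, hx, rfl⟩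
        exact ⟨ξ x, S.lev_inv _ x hx, S.m_xi hx⟩)
      ⟨a, ha, rfl⟩ (fun h0 => ha1 ((S.m_eq_zero_iff ha).mp h0)) t
    exact ⟨x, hx, hxt⟩
  equiv _ hx := S.m_xi hx
  prim := S.coord.prim

end Setup

end CL.Suz2
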