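import Cfsg.Agent.Base
import Cfsg.Agent.Suz2.Level

/-!
Higman's theorem on Suzuki 2-groups: the subgroup generated by the squares has exponent two.
-/

set_option autoImplicit false

namespace CL.Suz2

open scoped commutatorElement

variable {F : Type*} [Field F] [Fintype F] [CharP F 2] {P : Type*} [Group P] {ξ : MulAut P}

namespace Setup

variable (S : Setup F ξ) {e : ℕ} (hsq : ∀ x, x * x ∈ S.lev (e + 2))
  (htop : ∀ a ∈ S.A, a ∈ S.lev (e + 2))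

section
include hsq

omit [CharP F 2] in
theorem comm_mem (u v : P) : ⁅u, v⁆ ∈ S.lev (e + 2) := by
  rw [commutator_eq_sq]
  exact mul_mem (mul_mem (hsq _) (hsq _)) (hsq _)

omit [CharP F 2] in
theorem beta_mul_left (u u' v : P) :
    S.m (e + 1) ⁅u * u', v⁆ = S.m (e + 1) ⁅u, v⁆ + S.m (e + 1) ⁅u', v⁆ :=
  S.m_comm_mul_left (S.comm_mem hsq _ _) (S.comm_mem hsq _ _)

theorem beta_mul_right (u v v' : P) :
    S.m (e + 1) ⁅u, v * v'⁆ = S.m (e + 1) ⁅u, v⁆ + S.m (e + 1) ⁅u, v'⁆ :=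
  S.m_comm_mul_right (S.comm_mem hsq _ _) (S.comm_mem hsq _ _)

theorem beta_symm (u v : P) : S.m (e + 1) ⁅u, v⁆ = S.m (e + 1) ⁅v, u⁆ :=
  S.m_comm_symm (S.comm_mem hsq _ _)

theorem beta_inv_left (u v : P) : S.m (e + 1) ⁅u⁻¹, v⁆ = S.m (e + 1) ⁅u, v⁆ := by
  have := S.beta_mul_left hsq u⁻¹ u v
  rw [inv_mul_cancel, commutatorElement_one_left, S.m_eq_zero (one_mem _), eq_comm,
    add_eq_zero_iff_eq_neg, CharTwo.neg_eq] at this
  exact this

theorem quad_mul (u v : P) : S.m (e + 1) ((u * v) * (u * v)) =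
    S.m (e + 1) (u * u) + S.m (e + 1) (v * v) + S.m (e + 1) ⁅u, v⁆ := by
  have : (u * v) * (u * v) = (u * u) * ⁅u⁻¹, v⁆ * (v * v) := by
    rw [commutatorElement_def]; group
  rw [this, S.m_mul (mul_mem (hsq _) (S.comm_mem hsq _ _)) (hsq _),
    S.m_mul (hsq _) (S.comm_mem hsq _ _), S.beta_inv_left hsq]
  ring

theorem relation (u v : P) : S.m e ⁅v, u * u⁆ = S.m (e + 1) ⁅u, v⁆ + S.m e ⁅u, ⁅u, v⁆⁆ := by
  have e1 : ⁅u * u, v⁆ = ⁅u, ⁅u, v⁆⁆ * (⁅u, v⁆ * ⁅u, v⁆) := by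
    simp only [commutatorElement_def]; group
  have h1 := S.comm_mem hsq u v
  rw [← S.m_comm_symm (S.comm_mem_lev (hsq u) v), e1,
    S.m_mul (S.comm_mem_lev h1 u) (S.sq_mem_lev h1), S.m_sq, add_comm]

end

include htop in
omit [CharP F 2] in
theorem beta_A_right (u : P) {a : P} (ha : a ∈ S.A) : S.m (e + 1) ⁅u, a⁆ = 0 :=
  S.m_eq_zero (S.comm_mem_lev (htop a ha) u)

include hsq htop

theorem beta_A_left {a : P} (ha : a ∈ S.A) (u : P) : S.m (e + 1) ⁅a, u⁆ = 0 := by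
  rw [S.beta_symm hsq, S.beta_A_right htop u ha]

theorem quad_mul_A (u : P) {a : P} (ha : a ∈ S.A) :
    S.m (e + 1) ((u * a) * (u * a)) = S.m (e + 1) (u * u) := by
  rw [S.quad_mul hsq, S.beta_A_right htop u ha, S.m_eq_zero (S.sq_mem_lev (htop a ha))]
  simp

variable {C C' : Subgroup P} {α α' : F} {f f' : P → F}

theorem exists_beta (hC : Coord ξ C S.A α f) (hC' : Coord ξ C' S.A α' f') :
    ∃ β : F →+ F →+ F, (∀ x ∈ C, ∀ y ∈ C', β (f x) (f' y) = S.m (e + 1) ⁅x, y⁆) ∧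
      ∀ s t, β (α * s) (α' * t) = S.lam * β s t := by
  obtain ⟨β, hβ⟩ := hC.exists_biadd hC' (fun x y => S.m (e + 1) ⁅x, y⁆)
    (fun x _ x' _ y _ => S.beta_mul_left hsq x x' y)
    (fun x _ y _ y' _ => S.beta_mul_right hsq x y y')
    (fun x hx y _ => S.beta_A_left hsq htop hx y) (fun x _ y hy => S.beta_A_right htop x hy)
  refine ⟨β, hβ, fun s t => ?_⟩
  obtain ⟨x, hx, rfl⟩ := hC.surj s
  obtain ⟨y, hy, rfl⟩ := hC'.surj t
  rw [← hC.equiv x hx, ← hC'.equiv y hy, hβ _ (hC.inv x hx) _ (hC'.inv y hy), hβ x hx y hy,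
    ← map_commutatorElement, S.m_xi (S.comm_mem hsq x y)]

omit hsq in
theorem exists_nu {a₀ : P} (ha₀ : a₀ ∈ S.A) (ha₁ : a₀ ∉ S.lev (e + 1)) (hC : Coord ξ C S.A α f) :
    ∃ ν : F →+ F →+ F, ∀ x ∈ C, ∀ a ∈ S.lev (e + 2), ν (f x) (S.m (e + 1) a) = S.m e ⁅x, a⁆ :=
  hC.exists_biadd (S.coord_lev (htop _ ha₀) ha₁) (fun x a => S.m e ⁅x, a⁆)
    (fun x _ x' _ _ ha => S.m_comm_mul_left (S.comm_mem_lev ha x) (S.comm_mem_lev ha x'))
    (fun x _ _ ha _ ha' => S.m_comm_mul_right (S.comm_mem_lev ha x) (S.comm_mem_lev ha' x))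
    (fun x hx a ha => by
      rw [commutatorElement_eq_one_iff_mul_comm.mpr (S.comm x hx a ha.1)]
      exact S.m_eq_zero (one_mem _))
    (fun x _ _ ha => S.m_eq_zero (S.comm_mem_lev ha x))

theorem beta_eq_zero_of_key {a₀ : P} (ha₀ : a₀ ∈ S.A) (ha₁ : a₀ ∉ S.lev (e + 1))
    (hC : Coord ξ C S.A α f) (hC' : Coord ξ C' S.A α' f') (c : F) (σ σ' : F ≃+* F)
    (hc : c = 0 ∨ σ ≠ σ') (hQ : ∀ x ∈ C, S.m (e + 1) (x * x) = c * (σ (f x) * σ' (f x))) :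
    ∀ x ∈ C, ∀ y ∈ C', S.m (e + 1) ⁅x, y⁆ = 0 := by
  obtain ⟨β, hβ, hβe⟩ := S.exists_beta hsq htop hC hC'
  obtain ⟨ν₁, hν₁⟩ := S.exists_nu htop ha₀ ha₁ hC
  obtain ⟨ν₂, hν₂⟩ := S.exists_nu htop ha₀ ha₁ hC'
  have := key_eq_zero S.h.card_gt hC.prim hC'.prim β ν₁ ν₂ hβe c σ σ' hc (fun s t => by
    obtain ⟨x, hx, rfl⟩ := hC.surj s
    obtain ⟨y, hy, rfl⟩ := hC'.surj t
    rw [← hQ x hx, hν₂ y hy _ (hsq x), hβ x hx y hy, hν₁ x hx _ (S.comm_mem hsq x y),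
      S.relation hsq])
  intro x hx y hy
  rw [← hβ x hx y hy, this]
  rfl

theorem beta_self_eq_zero {a₀ : P} (ha₀ : a₀ ∈ S.A) (ha₁ : a₀ ∉ S.lev (e + 1))
    (hC : Coord ξ C S.A α f) : ∀ x ∈ C, ∀ y ∈ C, S.m (e + 1) ⁅x, y⁆ = 0 := by
  obtain ⟨β, hβ, -⟩ := S.exists_beta hsq htop hC hC
  obtain ⟨q, hq⟩ := hC.exists_fun (fun x => S.m (e + 1) (x * x))
    (fun x _ y hy => S.quad_mul_A hsq htop x hy)
  obtain ⟨σ, τ, hστ⟩ := quad_eq_monomial hC.prim S.coord.prim.ne_zero q β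
    (by
      have := hq 1 (one_mem _)
      rwa [hC.map_one, mul_one, S.m_eq_zero (one_mem _)] at this)
    (fun s t => by
      obtain ⟨x, hx, rfl⟩ := hC.surj s
      obtain ⟨y, hy, rfl⟩ := hC.surj t
      rw [← hC.map_mul x hx y hy, hq _ (mul_mem hx hy), hq x hx, hq y hy, hβ x hx y hy,
        S.quad_mul hsq])
    (fun s => by
      obtain ⟨x, hx, rfl⟩ := hC.surj s
      rw [← hC.equiv x hx, hq _ (hC.inv x hx), hq x hx, ← map_mul, S.m_xi (hsq x)])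
  by_cases hne : σ = τ
  · intro x hx y hy
    have h2 : (2 : F) = 0 := CharTwo.two_eq_zero
    have h1 := S.quad_mul hsq x y
    rw [← hq _ (mul_mem hx hy), ← hq x hx, ← hq y hy, hC.map_mul x hx y hy, hστ, hστ (f x),
      hστ (f y), ← hne, map_add] at h1
    linear_combination -h1 + q 1 * σ (f x) * σ (f y) * h2
  · exact S.beta_eq_zero_of_key hsq htop ha₀ ha₁ hC hC (q 1) σ τ (Or.inr hne)
      (fun x hx => by rw [← hq x hx, hστ])

/-- On a line where squaring is not trivial modulo `A²`, squaring is a coordinate. -/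
theorem coord_sq {a₀ : P} (ha₀ : a₀ ∈ S.A) (ha₁ : a₀ ∉ S.lev (e + 1))
    (hC : Coord ξ C S.A α f) {x₀ : P} (hx₀ : x₀ ∈ C) (hx₁ : S.m (e + 1) (x₀ * x₀) ≠ 0) :
    Coord ξ C S.A S.lam (fun x => S.m (e + 1) (x * x)) := by
  have hmul : ∀ x ∈ C, ∀ y ∈ C, S.m (e + 1) ((x * y) * (x * y)) =
      S.m (e + 1) (x * x) + S.m (e + 1) (y * y) := fun x hx y hy => by
    rw [S.quad_mul hsq, S.beta_self_eq_zero hsq htop ha₀ ha₁ hC x hx y hy, add_zero]
  have hxi : ∀ x, S.m (e + 1) (ξ x * ξ x) = S.lam * S.m (e + 1) (x * x) := fun x => by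
    rw [← map_mul, S.m_xi (hsq x)]
  have hA : ∀ x ∈ S.A, S.m (e + 1) (x * x) = 0 := fun x hx =>
    S.m_eq_zero (S.sq_mem_lev (htop x hx))
  refine ⟨hC.le, hC.inv, hmul, fun x hx => ⟨fun h0 => ?_, hA x⟩, fun t => ?_, fun x _ => hxi x,
    S.coord.prim⟩
  · by_contra hxA
    let H : Subgroup P :=
      { carrier := {y | y ∈ C ∧ S.m (e + 1) (y * y) = 0}
        mul_mem' := fun {y z} hy hz => ⟨mul_mem hy.1 hz.1, by rw [hmul y hy.1 z hz.1, hy.2, hz.2, add_zero]⟩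
        one_mem' := ⟨one_mem _, hA 1 (one_mem _)⟩
        inv_mem' := fun {y} hy => ⟨inv_mem hy.1, by rw [← mul_inv_rev, S.m_inv (hsq y), hy.2]⟩ }
    exact hx₁ (hC.le_of_mem (H := H) (fun y hy => ⟨hC.le hy, hA y hy⟩)
      (fun y hy => ⟨hC.inv y hy.1, by rw [hxi, hy.2, mul_zero]⟩) hx ⟨hx, h0⟩ hxA hx₀).2
  · obtain ⟨x, hx, hxt⟩ := S.coord.prim.mem_of_mem ((fun x => S.m (e + 1) (x * x)) '' C)
      ⟨1, one_mem _, hA 1 (one_mem _)⟩
      (by
        rintro _ ⟨x, hx, rfl⟩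
        exact ⟨ξ x, hC.inv x hx, hxi x⟩)
      ⟨x₀, hx₀, rfl⟩ hx₁ t
    exact ⟨x, hx, hxt⟩

omit [CharP F 2] in
theorem exists_sq_mul_sq {a₀ : P} (ha₀ : a₀ ∈ S.A) (ha₁ : a₀ ∉ S.lev (e + 1))
    (hC : Coord ξ C S.A S.lam (fun x => S.m (e + 1) (x * x))) {a : P} (ha : a ∈ S.A) :
    ∃ c ∈ C, ∃ b ∈ S.A, a = c * c * (b * b) := by
  obtain ⟨c, hc, hca⟩ := hC.surj (S.m (e + 1) a)
  have h1 : (c * c)⁻¹ * a ∈ S.lev (e + 1) :=
    ((S.coord_lev (htop _ ha₀) ha₁).eq_iff (hsq c) (htop a ha)).mp hca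
  obtain ⟨b, hb, hba⟩ := S.exists_sq ⟨a₀, ha₀, fun h => ha₁ ⟨ha₀, h⟩⟩ h1
  exact ⟨c, hc, b, hb, by rw [hba, mul_inv_cancel_left]⟩

theorem comm_of_coord_sq {a₀ : P} (ha₀ : a₀ ∈ S.A) (ha₁ : a₀ ∉ S.lev (e + 1))
    (hC : Coord ξ C S.A S.lam (fun x => S.m (e + 1) (x * x))) :
    ∀ x ∈ C, ∀ y ∈ C, x * y = y * x := by
  have key : ∀ j, (∀ x ∈ C, ∀ y ∈ C, ⁅x, y⁆ ∈ S.lev j) → ∀ x ∈ C, ∀ y ∈ C, x * y = y * x := by
    intro j
    induction j with
    | zero =>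
      intro h x hx y hy
      exact commutatorElement_eq_one_iff_mul_comm.mp (by simpa using (h x hx y hy).2)
    | succ j ih =>
      intro h
      apply ih
      have hl : ∀ x ∈ C, ∀ x' ∈ C, ∀ y ∈ C, S.m j ⁅x * x', y⁆ = S.m j ⁅x, y⁆ + S.m j ⁅x', y⁆ :=
        fun x hx x' hx' y hy => S.m_comm_mul_left (h x hx y hy) (h x' hx' y hy)
      have h0 : ∀ a ∈ S.A, ∀ y ∈ C, S.m j ⁅a, y⁆ = 0 := by
        intro a ha y hy
        obtain ⟨c, hc, b, hb, rfl⟩ := S.exists_sq_mul_sq hsq htop ha₀ ha₁ hC ha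
        have hb' := hC.le hb
        rw [hl _ (mul_mem hc hc) _ (mul_mem hb' hb') y hy, hl c hc c hc y hy, hl b hb' b hb' y hy,
          CharTwo.add_self_eq_zero, CharTwo.add_self_eq_zero, add_zero]
      obtain ⟨γ, hγ⟩ := hC.exists_biadd hC (fun x y => S.m j ⁅x, y⁆) hl
        (fun x hx y hy y' hy' => S.m_comm_mul_right (h x hx y hy) (h x hx y' hy')) h0
        (fun x hx a ha => by rw [S.m_comm_symm (h a (hC.le ha) x hx), h0 a ha x hx])
      have hγ0 := alt_eq_zero hC.prim 1 γ (fun s t => by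
          obtain ⟨x, hx, rfl⟩ := hC.surj s
          obtain ⟨y, hy, rfl⟩ := hC.surj t
          rw [← hC.equiv x hx, ← hC.equiv y hy, hγ _ (hC.inv x hx) _ (hC.inv y hy), hγ x hx y hy,
            ← map_commutatorElement, S.m_xi (h x hx y hy)]
          rfl)
        (fun s => by
          obtain ⟨x, hx, rfl⟩ := hC.surj s
          rw [hγ x hx x hx, commutatorElement_self, S.m_eq_zero (one_mem _)])
      intro x hx y hy
      rw [← S.m_eq_zero_iff (h x hx y hy), ← hγ x hx y hy, hγ0]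
      rfl
  exact key (e + 2) (fun x _ y _ => S.comm_mem hsq x y)

/-- The elements whose commutators with a set `T` lie in `A²`. -/
def betaPerp (T : Set P) : Subgroup P where
  carrier := {u | ∀ v ∈ T, S.m (e + 1) ⁅u, v⁆ = 0}
  mul_mem' {x y} hx hy v hv := by rw [S.beta_mul_left hsq, hx v hv, hy v hv, add_zero]
  one_mem' v _ := S.beta_A_left hsq htop (one_mem _) v
  inv_mem' {x} hx v hv := by rw [S.beta_inv_left hsq, hx v hv]

theorem comm_of_not_lev {a₀ : P} (ha₀ : a₀ ∈ S.A) (ha₁ : a₀ ∉ S.lev (e + 1))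
    (hcl : S.A ≤ Subgroup.closure {y | ∃ x : P, x * x = y}) (x y : P) : x * y = y * x := by
  have := S.normal
  have hsqA : ∀ x, x * x ∈ S.A := fun x => (hsq x).1
  have hperp : ∀ T : Set P, S.A ≤ S.betaPerp hsq htop T := fun T a ha v _ =>
    S.beta_A_left hsq htop ha v
  by_cases hall : ∀ (C : Subgroup P) (α : F) (f : P → F), Coord ξ C S.A α f →
      ∀ x ∈ C, S.m (e + 1) (x * x) = 0
  · exfalso
    have h1 : ∀ (C : Subgroup P) (α : F) (f : P → F), Coord ξ C S.A α f →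
        S.betaPerp hsq htop C = ⊤ := fun C α f hC =>
      S.h.eq_top_of_coord S.A S.inv hsqA _ (hperp _) (fun C' α' f' hC' u hu v hv =>
        S.beta_eq_zero_of_key hsq htop ha₀ ha₁ hC' hC 0 1 1 (Or.inl rfl)
          (fun x hx => by rw [hall C' α' f' hC' x hx, zero_mul]) u hu v hv)
    have h2 : S.betaPerp hsq htop Set.univ = ⊤ :=
      S.h.eq_top_of_coord S.A S.inv hsqA _ (hperp _) (fun C α f hC u hu v _ => by
        rw [S.beta_symm hsq]
        have : v ∈ S.betaPerp hsq htop C := h1 C α f hC ▸ Subgroup.mem_top v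
        exact this u hu)
    have h3 : ∀ u v, S.m (e + 1) ⁅u, v⁆ = 0 := fun u v => by
      have : u ∈ S.betaPerp hsq htop Set.univ := h2 ▸ Subgroup.mem_top u
      exact this v trivial
    let H : Subgroup P :=
      { carrier := {y | S.m (e + 1) (y * y) = 0}
        mul_mem' := fun {y z} hy hz => by
          simp only [Set.mem_ofPred_eq] at hy hz ⊢
          rw [S.quad_mul hsq, hy, hz, h3, add_zero, add_zero]
        one_mem' := S.m_eq_zero (S.sq_mem_lev (one_mem _))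
        inv_mem' := fun {y} hy => by
          simp only [Set.mem_ofPred_eq] at hy ⊢
          rw [← mul_inv_rev, S.m_inv (hsq y), hy] }
    have h4 : H = ⊤ := S.h.eq_top_of_coord S.A S.inv hsqA H
      (fun a ha => S.m_eq_zero (S.sq_mem_lev (htop a ha))) (fun C α f hC u hu => hall C α f hC u hu)
    apply ha₁
    refine (Subgroup.closure_le (S.lev (e + 1))).mpr ?_ (hcl ha₀)
    rintro _ ⟨u, rfl⟩
    have : u ∈ H := h4 ▸ Subgroup.mem_top u
    exact (S.m_eq_zero_iff (hsq u)).mp this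
  push Not at hall
  obtain ⟨C, α, f, hC, x₀, hx₀, hx₁⟩ := hall
  have hCq := S.coord_sq hsq htop ha₀ ha₁ hC hx₀ hx₁
  have hCc := S.comm_of_coord_sq hsq htop ha₀ ha₁ hCq
  have h1 : S.betaPerp hsq htop C = ⊤ :=
    S.h.eq_top_of_coord S.A S.inv hsqA _ (hperp _) (fun C' α' f' hC' u hu v hv => by
      by_cases h0 : ∀ x ∈ C', S.m (e + 1) (x * x) = 0
      · exact S.beta_eq_zero_of_key hsq htop ha₀ ha₁ hC' hC 0 1 1 (Or.inl rfl)
          (fun x hx => by rw [h0 x hx, zero_mul]) u hu v hv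
      push Not at h0
      obtain ⟨y₀, hy₀, hy₁⟩ := h0
      have hC'c := S.comm_of_coord_sq hsq htop ha₀ ha₁ (S.coord_sq hsq htop ha₀ ha₁ hC' hy₀ hy₁)
      have := S.relation hsq u v
      rwa [commutatorElement_eq_one_iff_mul_comm.mpr (hCc v hv _ (hC.le (hsqA u))),
        commutatorElement_eq_one_iff_mul_comm.mpr (hC'c u hu _ (hC'.le (S.comm_mem hsq u v).1)),
        S.m_eq_zero (one_mem _), add_zero, eq_comm] at this)
  have hsqC : ∀ a ∈ S.A, ∃ c ∈ C, a = c * c := by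
    intro a ha
    obtain ⟨c, hc, b, hb, rfl⟩ := S.exists_sq_mul_sq hsq htop ha₀ ha₁ hCq ha
    refine ⟨c * b, mul_mem hc (hC.le hb), ?_⟩
    rw [mul_assoc c b, ← mul_assoc b, ← hCc c hc b (hC.le hb)]
    simp only [mul_assoc]
  have hall : ∀ u, u ∈ C := fun u =>
    S.h.mem_of_sq hCc (fun x hx => hC.le (S.h.mem_of_invol S.inv ha₀
      (by rintro rfl; exact ha₁ (one_mem _)) hx)) (hsqC _ (hsqA u)) (fun c hc => by
      have h2 : u⁻¹ ∈ S.betaPerp hsq htop C := h1 ▸ Subgroup.mem_top _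
      have h3 := (S.m_eq_zero_iff (S.comm_mem hsq _ _)).mp (h2 c hc)
      obtain ⟨b, hb, hbb⟩ := S.exists_sq ⟨a₀, ha₀, fun h => ha₁ ⟨ha₀, h⟩⟩ h3
      obtain ⟨d, hd, rfl⟩ := hsqC b hb
      refine ⟨d, hd, ?_⟩
      rw [hCc c hc _ (pow_mem hd 4), show d ^ 4 = d * d * (d * d) by simp [pow_succ, mul_assoc], hbb,
        commutatorElement_def]
      group)
  exact hCc x (hall x) y (hall y)

end Setup

end CL.Suz2
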