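import Cfsg.Agent.Base
import Cfsg.Agent.Suz2.Main
import Cfsg.Agent.Auto.ACL_Suz2_Hyp_omega_a2d366

/-!
Higman's theorem on Suzuki 2-groups: centre, exponent and order.
-/

set_option autoImplicit false

namespace CL.Suz2

open scoped commutatorElement

universe u

variable {F : Type*} [Field F] [Fintype F] [CharP F 2]

section
variable {P : Type*} [Group P] {ξ : MulAut P}

/-- The subgroup generated by the squares. -/
def sqClosure (P : Type*) [Group P] : Subgroup P := Subgroup.closure {y | ∃ x : P, x * x = y}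

theorem sq_mem_sqClosure (x : P) : x * x ∈ sqClosure P := Subgroup.subset_closure ⟨x, rfl⟩

theorem map_mem_sqClosure (φ : P →* P) {x : P} (hx : x ∈ sqClosure P) : φ x ∈ sqClosure P := by
  have : sqClosure P ≤ (sqClosure P).comap φ := by
    rw [sqClosure, Subgroup.closure_le]
    rintro _ ⟨y, rfl⟩
    exact Subgroup.subset_closure ⟨φ y, (map_mul φ y y).symm⟩
  exact this hx

theorem sqClosure_normal : (sqClosure P).Normal :=
  ⟨fun _ hx g => map_mem_sqClosure (MulAut.conj g).toMonoidHom hx⟩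

theorem sqClosure_ne_top [Finite P] [Nontrivial P] (h : IsPGroup 2 P) : sqClosure P ≠ ⊤ := by
  intro htop
  have := h.isNilpotent
  have hsurj : Function.Surjective (powMonoidHom 2 : Abelianization P →* Abelianization P) := by
    intro b
    obtain ⟨x, rfl⟩ := QuotientGroup.mk_surjective b
    have : sqClosure P ≤ (powMonoidHom 2 : Abelianization P →* Abelianization P).range.comap
        Abelianization.of := by
      rw [sqClosure, Subgroup.closure_le]
      rintro _ ⟨y, rfl⟩
      exact ⟨Abelianization.of y, by rw [powMonoidHom_apply, pow_two, map_mul]⟩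
    exact this (htop ▸ Subgroup.mem_top x)
  have hinj := Finite.injective_iff_surjective.mpr hsurj
  have htriv : ∀ (k : ℕ) (b : Abelianization P), b ^ 2 ^ k = 1 → b = 1 := by
    intro k
    induction k with
    | zero => intro b hb; simpa using hb
    | succ k ih =>
      intro b hb
      apply ih
      apply hinj
      rw [powMonoidHom_apply, map_one, ← pow_mul, ← pow_succ, hb]
  apply (Group.IsSolvable.commutator_lt_top_of_nontrivial P).ne
  rw [eq_top_iff]
  intro x _
  obtain ⟨k, hk⟩ := h x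
  have := htriv k (Abelianization.of x) (by rw [← map_pow, hk, map_one])
  exact (QuotientGroup.eq_one_iff x).mp this

omit [Field F] [CharP F 2] in
theorem Hyp.sq_eq_one_of_mem_center (h : Hyp F ξ) (hsq : ∀ x : P, (x * x) * (x * x) = 1)
    (hna : ∃ x y : P, x * y ≠ y * x) {z : P} (hz : z ∈ Subgroup.center P) : z * z = 1 := by
  by_contra hz2
  have hall : ∀ u, u ∈ Subgroup.center P := by
    intro u
    by_cases hu : u * u = 1
    · exact h.mem_center hu
    obtain ⟨k, hk⟩ := h.trans _ _ hz2 (hsq z) hu (hsq u)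
    have hz' : (ξ ^ k) z ∈ Subgroup.center P := by
      rw [Subgroup.mem_center_iff] at hz ⊢
      intro g
      obtain ⟨g, rfl⟩ := (ξ ^ k).surjective g
      rw [← map_mul, hz, map_mul]
    rw [map_mul] at hk
    have h1 : u * ((ξ ^ k) z)⁻¹ ∈ Subgroup.center P := h.mem_center (by
      rw [mul_assoc, ← mul_assoc _ u, ← Subgroup.mem_center_iff.mp (inv_mem hz') u, mul_assoc,
        ← mul_assoc, ← hk]
      group)
    simpa using mul_mem h1 hz'
  obtain ⟨x, y, hxy⟩ := hna
  exact hxy (Subgroup.mem_center_iff.mp (hall y) x)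

theorem Hyp.sq_sq_of_comm (h : Hyp F ξ) (hna : ∃ x y : P, x * y ≠ y * x)
    (hc : ∀ x ∈ sqClosure P, ∀ y ∈ sqClosure P, x * y = y * x) (x : P) : (x * x) * (x * x) = 1 := by
  classical
  have := h.finite
  obtain ⟨u, v, huv⟩ := hna
  have : Nontrivial P := ⟨u * v, v * u, huv⟩
  obtain ⟨lam, f, hf⟩ := h.exists_coord_omega
  let S : Setup F ξ := ⟨h, sqClosure P, sqClosure_normal,
    fun _ hx => map_mem_sqClosure ξ.toMonoidHom hx, hc, lam, f, hf⟩
  have hex : ∃ k : ℕ, ∀ a ∈ sqClosure P, a ^ 2 ^ k = 1 := by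
    obtain ⟨k, hk⟩ := IsPGroup.iff_card.mp h.two
    exact ⟨k, fun a _ => by rw [← hk, pow_card_eq_one']⟩
  by_contra hx
  have h2 : 2 ≤ Nat.find hex := by
    by_contra hlt
    have h1 := Nat.find_spec hex (x * x) (sq_mem_sqClosure x)
    have : Nat.find hex = 0 ∨ Nat.find hex = 1 := by omega
    rcases this with h0 | h0 <;> rw [h0] at h1
    · exact hx (by rw [show x * x = 1 by simpa using h1, mul_one])
    · exact hx (by simpa [pow_two] using h1)
  obtain ⟨e, he⟩ := Nat.exists_eq_add_of_le' h2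
  have htop : ∀ a ∈ S.A, a ∈ S.lev (e + 2) := fun a ha => ⟨ha, he ▸ Nat.find_spec hex a ha⟩
  have hmin := Nat.find_min hex (m := e + 1) (by omega)
  push Not at hmin
  obtain ⟨a₀, ha₀, ha₁⟩ := hmin
  exact huv (S.comm_of_not_lev (fun x => htop _ (sq_mem_sqClosure x)) htop ha₀
    (fun h => ha₁ h.2) le_rfl u v)

theorem exists_mem_not_mem_comm [Group.IsNilpotent P] (A Y : Subgroup P) [A.Normal]
    (hAY : ¬ A ≤ Y) : ∃ y ∈ A, y ∉ Y ∧ ∀ u, ⁅y, u⁆ ∈ Y := by
  by_contra hcon
  push Not at hcon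
  obtain ⟨n, hn⟩ := Subgroup.nilpotent_iff_lowerCentralSeries.mp ‹Group.IsNilpotent P›
  have key : ∀ n, ∃ y ∈ A, y ∉ Y ∧ y ∈ Subgroup.lowerCentralSeries ⊤ n := by
    intro n
    induction n with
    | zero =>
      obtain ⟨y, hy, hyY⟩ := Set.not_subset.mp hAY
      exact ⟨y, hy, hyY, Subgroup.mem_top y⟩
    | succ n ih =>
      obtain ⟨y, hy, hyY, hyn⟩ := ih
      obtain ⟨u, hu⟩ := hcon y hy hyY
      exact ⟨⁅y, u⁆, Subgroup.commutator_le_left A ⊤
        (Subgroup.commutator_mem_commutator hy (Subgroup.mem_top u)), hu,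
        Subgroup.commutator_mem_commutator hyn (Subgroup.mem_top u)⟩
  obtain ⟨y, -, hyY, hy⟩ := key n
  rw [hn, Subgroup.mem_bot] at hy
  exact hyY (hy ▸ one_mem _)

end

theorem sq_sq_aux (n : ℕ) : ∀ (P : Type u) [Group P] (ξ : MulAut P), Hyp F ξ → Nat.card P = n →
    (∃ x y : P, x * y ≠ y * x) → ∀ x : P, (x * x) * (x * x) = 1 := by
  induction n using Nat.strong_induction_on with
  | _ n ih =>
    intro P _ ξ h hn hna
    by_cases hc : ∀ x ∈ sqClosure P, ∀ y ∈ sqClosure P, x * y = y * x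
    · exact h.sq_sq_of_comm hna hc
    exfalso
    have := h.finite
    push Not at hc
    obtain ⟨a, ha, b, hb, hab⟩ := hc
    have : Nontrivial P := ⟨a * b, b * a, hab⟩
    have hinv : ∀ x ∈ sqClosure P, ξ x ∈ sqClosure P :=
      fun _ hx => map_mem_sqClosure ξ.toMonoidHom hx
    have h' := h.restrict (sqClosure P) hinv
    have hna' : ∃ x y : sqClosure P, x * y ≠ y * x :=
      ⟨⟨a, ha⟩, ⟨b, hb⟩, fun e => hab (congrArg Subtype.val e)⟩
    have hlt : Nat.card (sqClosure P) < n := by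
      rw [← hn]
      exact lt_of_le_of_ne (Subgroup.card_le_card_group _)
        (fun e => sqClosure_ne_top h.two (Subgroup.eq_top_of_card_eq _ e))
    have hsq' := ih _ hlt (sqClosure P) _ h' rfl hna'
    have := h.two.isNilpotent
    have := sqClosure_normal (P := P)
    obtain ⟨y, hy, hyΩ, hyc⟩ := exists_mem_not_mem_comm (sqClosure P) h.omega
      (fun hle => hab (h.comm (hle hb) a))
    have hcent : sqClosure P ≤ Subgroup.centralizer {y} := by
      rw [sqClosure, Subgroup.closure_le]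
      rintro _ ⟨u, rfl⟩
      rw [SetLike.mem_coe, Subgroup.mem_centralizer_singleton_iff, eq_comm,
        ← commutatorElement_eq_one_iff_mul_comm]
      have e1 : ⁅y, u * u⁆ = ⁅y, u⁆ * (u * ⁅y, u⁆) * u⁻¹ := by
        simp only [commutatorElement_def]; group
      rw [e1, h.comm (hyc u) u, ← mul_assoc, hyc u, one_mul, mul_inv_cancel]
    have := h'.sq_eq_one_of_mem_center hsq' hna' (z := ⟨y, hy⟩) (by
      rw [Subgroup.mem_center_iff]
      intro g
      exact Subtype.ext (Subgroup.mem_centralizer_singleton_iff.mp (hcent g.2)))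
    exact hyΩ (congrArg Subtype.val this)

variable {P : Type*} [Group P] {ξ : MulAut P}

/-- Higman: all squares are involutions or trivial. -/
theorem Hyp.sq_mem_omega (h : Hyp F ξ) (hna : ∃ x y : P, x * y ≠ y * x) (x : P) :
    x * x ∈ h.omega := sq_sq_aux _ P ξ h rfl hna x

theorem Hyp.center_eq_omega (h : Hyp F ξ) (hna : ∃ x y : P, x * y ≠ y * x) :
    Subgroup.center P = h.omega :=
  le_antisymm (fun _ hz => h.sq_eq_one_of_mem_center (h.sq_mem_omega hna) hna hz)
    (fun _ hz => h.mem_center hz)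

theorem Hyp.card_omega (h : Hyp F ξ) [Nontrivial P] : Nat.card h.omega = Fintype.card F := by
  obtain ⟨lam, f, hf⟩ := h.exists_coord_omega
  rw [hf.card, Subgroup.card_bot, mul_one]

theorem Hyp.exists_coord (h : Hyp F ξ) (hna : ∃ x y : P, x * y ≠ y * x) {S : Subgroup P}
    (hS : h.omega ≤ S) (hS' : S ≠ ⊤) :
    ∃ (C : Subgroup P) (a : F) (f : P → F), Coord ξ C h.omega a f ∧ ¬ C ≤ S := by
  have := h.omega_normal
  by_contra hcon
  push Not at hcon
  exact hS' (h.eq_top_of_coord h.omega h.omega_inv (h.sq_mem_omega hna) S hS hcon)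

omit [Field F] [CharP F 2] in
theorem Hyp.omega_ne_top (h : Hyp F ξ) (hna : ∃ x y : P, x * y ≠ y * x) : h.omega ≠ ⊤ := by
  obtain ⟨x, y, hxy⟩ := hna
  intro htop
  exact hxy (h.comm (x := y) (h.mem_omega.mp (htop ▸ Subgroup.mem_top y)) x)

theorem Hyp.comm_mem_omega (h : Hyp F ξ) (hna : ∃ x y : P, x * y ≠ y * x) (x y : P) :
    ⁅x, y⁆ ∈ h.omega := by
  rw [commutator_eq_sq]
  exact mul_mem (mul_mem (h.sq_mem_omega hna _) (h.sq_mem_omega hna _)) (h.sq_mem_omega hna _)

/-- The set-up with `A` the subgroup of involutions. -/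
def Hyp.setup (h : Hyp F ξ) {lam : F} {f : P → F} (hf : Coord ξ h.omega ⊥ lam f) : Setup F ξ :=
  ⟨h, h.omega, h.omega_normal, h.omega_inv, fun x _ _ hy => h.comm hy x, lam, f, hf⟩

section Quad

variable (h : Hyp F ξ) (hna : ∃ x y : P, x * y ≠ y * x) {lam : F} {f : P → F}
  (hf : Coord ξ h.omega ⊥ lam f)
include h hna hf

theorem Hyp.f_comm_mul_left (x x' y : P) : f ⁅x * x', y⁆ = f ⁅x, y⁆ + f ⁅x', y⁆ := by
  have e : ⁅x * x', y⁆ = x * ⁅x', y⁆ * x⁻¹ * ⁅x, y⁆ := by
    simp only [commutatorElement_def]; group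
  rw [e, h.comm (h.comm_mem_omega hna x' y) x, mul_inv_cancel_right,
    hf.map_mul _ (h.comm_mem_omega hna _ _) _ (h.comm_mem_omega hna _ _), add_comm]

theorem Hyp.f_comm_mul_right (x y y' : P) : f ⁅x, y * y'⁆ = f ⁅x, y⁆ + f ⁅x, y'⁆ := by
  have e : ⁅x, y * y'⁆ = ⁅x, y⁆ * (y * ⁅x, y'⁆ * y⁻¹) := by
    simp only [commutatorElement_def]; group
  rw [e, h.comm (h.comm_mem_omega hna x y') y, mul_inv_cancel_right,
    hf.map_mul _ (h.comm_mem_omega hna _ _) _ (h.comm_mem_omega hna _ _)]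

theorem Hyp.f_sq_mul (u v : P) : f ((u * v) * (u * v)) = f (u * u) + f (v * v) + f ⁅u, v⁆ := by
  have e : (u * v) * (u * v) = (u * u) * ⁅u⁻¹, v⁆ * (v * v) := by
    rw [commutatorElement_def]; group
  have e2 := h.f_comm_mul_left hna hf u⁻¹ u v
  rw [inv_mul_cancel, commutatorElement_one_left, hf.map_one, eq_comm,
    add_eq_zero_iff_eq_neg, CharTwo.neg_eq] at e2
  rw [e, hf.map_mul _ (mul_mem (h.sq_mem_omega hna _) (h.comm_mem_omega hna _ _)) _
    (h.sq_mem_omega hna _), hf.map_mul _ (h.sq_mem_omega hna _) _ (h.comm_mem_omega hna _ _), e2]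
  ring

omit [CharP F 2] hna in
theorem Hyp.f_comm_omega_right (u : P) {z : P} (hz : z ∈ h.omega) : f ⁅u, z⁆ = 0 := by
  rw [commutatorElement_eq_one_iff_mul_comm.mpr (h.comm hz u), hf.map_one]

omit [CharP F 2] hna in
theorem Hyp.f_comm_omega_left {z : P} (hz : z ∈ h.omega) (u : P) : f ⁅z, u⁆ = 0 := by
  rw [commutatorElement_eq_one_iff_mul_comm.mpr (h.comm hz u).symm, hf.map_one]

theorem Hyp.f_sq_mul_omega (u : P) {z : P} (hz : z ∈ h.omega) :
    f ((u * z) * (u * z)) = f (u * u) := by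
  rw [h.f_sq_mul hna hf, h.f_comm_omega_right hf u hz, h.mem_omega.mp hz, hf.map_one, add_zero,
    add_zero]

end Quad

theorem Hyp.index_omega_le (h : Hyp F ξ) (hna : ∃ x y : P, x * y ≠ y * x) :
    h.omega.index ≤ Fintype.card F ^ 2 := by
  have := h.finite
  have := h.omega_normal
  have : Nontrivial P := by
    obtain ⟨x, y, hxy⟩ := hna
    exact ⟨_, _, hxy⟩
  obtain ⟨lam, f, hf⟩ := h.exists_coord_omega
  let : CommGroup (P ⧸ h.omega) :=
    { (inferInstance : Group (P ⧸ h.omega)) with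
      mul_comm := fun a b => by
        obtain ⟨a, rfl⟩ := QuotientGroup.mk_surjective a
        obtain ⟨b, rfl⟩ := QuotientGroup.mk_surjective b
        rw [← QuotientGroup.mk_mul, ← QuotientGroup.mk_mul, QuotientGroup.eq]
        have := h.comm_mem_omega hna b⁻¹ a⁻¹
        rwa [commutatorElement_def, inv_inv a, inv_inv b, mul_assoc, ← mul_inv_rev] at this }
  let : Module (ZMod 2) (Additive (P ⧸ h.omega)) := AddCommGroup.zmodModule (fun x => by
    obtain ⟨a, ha⟩ := QuotientGroup.mk_surjective x.toMul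
    apply Additive.toMul.injective
    rw [toMul_nsmul, ← ha, pow_two, ← QuotientGroup.mk_mul, toMul_zero, QuotientGroup.eq_one_iff]
    exact h.sq_mem_omega hna a)
  let : Algebra (ZMod 2) F := ZMod.algebra F 2
  let π : P → Additive (P ⧸ h.omega) := fun x => Additive.ofMul (QuotientGroup.mk x)
  have hπ : Function.Surjective π := fun w => QuotientGroup.mk_surjective w.toMul
  have hπmul : ∀ x y, π (x * y) = π x + π y := fun x y => rfl
  let s : Additive (P ⧸ h.omega) → P := Function.surjInv hπ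
  have hs : ∀ x, x⁻¹ * s (π x) ∈ h.omega := fun x =>
    QuotientGroup.eq.mp (Function.surjInv_eq hπ (π x)).symm
  have e1 : ∀ x y, f ⁅s (π x), y⁆ = f ⁅x, y⁆ := fun x y => by
    have := h.f_comm_mul_left hna hf x (x⁻¹ * s (π x)) y
    rwa [mul_inv_cancel_left, h.f_comm_omega_left hf (hs x), add_zero] at this
  have e2 : ∀ x y, f ⁅x, s (π y)⁆ = f ⁅x, y⁆ := fun x y => by
    have := h.f_comm_mul_right hna hf x y (y⁻¹ * s (π y))
    rwa [mul_inv_cancel_left, h.f_comm_omega_right hf x (hs y), add_zero] at this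
  have e3 : ∀ x, f (s (π x) * s (π x)) = f (x * x) := fun x => by
    have := h.f_sq_mul_omega hna hf x (hs x)
    rwa [mul_inv_cancel_left] at this
  let β : Additive (P ⧸ h.omega) →+ Additive (P ⧸ h.omega) →+ F := AddMonoidHom.mk'
    (fun w => AddMonoidHom.mk' (fun w' => f ⁅s w, s w'⁆) (fun a b => by
      obtain ⟨a, rfl⟩ := hπ a
      obtain ⟨b, rfl⟩ := hπ b
      rw [← hπmul, e2, e2, e2, h.f_comm_mul_right hna hf]))
    (fun a b => by
      refine AddMonoidHom.ext fun w => ?_
      obtain ⟨a, rfl⟩ := hπ a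
      obtain ⟨b, rfl⟩ := hπ b
      simp only [AddMonoidHom.mk'_apply, AddMonoidHom.add_apply]
      rw [← hπmul, e1, e1, e1, h.f_comm_mul_left hna hf])
  obtain ⟨B, hB⟩ := exists_biadd_of_polar (fun w => f (s w * s w)) β
    (by
      have := e3 1
      rwa [mul_one, hf.map_one] at this)
    (fun a b => by
      obtain ⟨a, rfl⟩ := hπ a
      obtain ⟨b, rfl⟩ := hπ b
      simp only [β, AddMonoidHom.mk'_apply]
      rw [← hπmul, e3, e3, e3, e1, e2, h.f_sq_mul hna hf])
  have := card_le_sq_of_anisotropic B (fun w hw => by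
    obtain ⟨a, rfl⟩ := hπ w
    rw [← hB, e3, hf.ker _ (h.sq_mem_omega hna a), Subgroup.mem_bot] at hw
    exact (QuotientGroup.eq_one_iff a).mpr hw)
  rwa [Nat.card_eq_fintype_card (α := F)] at this

theorem Hyp.card_eq (h : Hyp F ξ) (hna : ∃ x y : P, x * y ≠ y * x) :
    Nat.card P = Fintype.card F ^ 2 ∨ Nat.card P = Fintype.card F ^ 3 := by
  have := h.finite
  have : Nontrivial P := by
    obtain ⟨x, y, hxy⟩ := hna
    exact ⟨_, _, hxy⟩
  obtain ⟨C, a, f, hC, -⟩ := h.exists_coord hna le_rfl (h.omega_ne_top hna)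
  have hcard := hC.card
  rw [h.card_omega] at hcard
  by_cases htop : C = ⊤
  · left
    rw [htop, Subgroup.card_top] at hcard
    rw [hcard, pow_two]
  right
  obtain ⟨C', a', f', hC', hle⟩ := h.exists_coord hna hC.le htop
  have hinf : C ⊓ C' = h.omega := by
    refine le_antisymm ?_ (le_inf hC.le hC'.le)
    intro x hx
    by_contra hxΩ
    exact hle (hC'.le_of_mem hC.le hC.inv hx.2 hx.1 hxΩ)
  have h1 : Fintype.card F ≤ C.index := by
    rw [← hC'.relIndex, ← hinf, Subgroup.inf_relIndex_right, ← Subgroup.relIndex_top_right]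
    exact Subgroup.relIndex_le_of_le_right le_top (by
      rw [Subgroup.relIndex_top_right]; exact Subgroup.index_ne_zero_of_finite)
  apply le_antisymm
  · rw [← h.omega.index_mul_card, h.card_omega, pow_succ _ 2]
    exact Nat.mul_le_mul_right _ (h.index_omega_le hna)
  · rw [← C.index_mul_card, hcard, pow_succ' _ 2, pow_two]
    exact Nat.mul_le_mul_right _ h1

theorem Hyp.exponent_eq (h : Hyp F ξ) (hna : ∃ x y : P, x * y ≠ y * x) :
    Monoid.exponent P = 4 := by
  have h4 : Monoid.exponent P ∣ 2 ^ 2 := Monoid.exponent_dvd_of_forall_pow_eq_one fun x => by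
    have := h.sq_mem_omega hna x
    rw [h.mem_omega] at this
    rw [← this]
    simp [pow_succ, mul_assoc]
  obtain ⟨k, hk, hke⟩ := (Nat.dvd_prime_pow Nat.prime_two).mp h4
  by_contra hne
  apply h.omega_ne_top hna
  rw [eq_top_iff]
  intro x _
  have hk1 : k ≤ 1 := by
    by_contra hk1
    exact hne (by rw [hke, show k = 2 by omega]; rfl)
  have : Monoid.exponent P ∣ 2 := hke ▸ (pow_dvd_pow 2 hk1)
  rw [h.mem_omega, ← pow_two]
  exact Monoid.exponent_dvd_iff_forall_pow_eq_one.mp this x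

/-- A Suzuki 2-group satisfies the working hypothesis over a field of the right size. -/
theorem exists_hyp (hP : Cfsg.IsSuzukiTwoGroup P) :
    ∃ (n : ℕ) (_ : Fintype (GaloisField 2 n)) (ξ : MulAut P), Hyp (GaloisField 2 n) ξ := by
  classical
  obtain ⟨hfin, h2, -, ⟨x₀, y₀, hxy, hx1, hx, hy1, hy⟩, K, hK, hreg⟩ := hP
  obtain ⟨g, hg⟩ := IsCyclic.exists_generator (α := K)
  have : Finite (MulAut P) :=
    Finite.of_injective (fun φ : MulAut P => (φ : P → P)) DFunLike.coe_injective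
  have hord : orderOf g = Nat.card K := orderOf_eq_card_of_forall_mem_zpowers hg
  have htrans : ∀ x y : P, x ≠ 1 → x * x = 1 → y ≠ 1 → y * y = 1 →
      ∃ k : ℕ, ((g : MulAut P) ^ k) x = y := by
    intro x y hx1 hx hy1 hy
    obtain ⟨k, hk, -⟩ := hreg x y hx1 hx hy1 hy
    obtain ⟨j, rfl⟩ := (mem_powers_iff_mem_zpowers.mpr (hg k))
    exact ⟨j, hk⟩
  have hfree : ∀ (k : ℕ) (x : P), x ≠ 1 → x * x = 1 → ((g : MulAut P) ^ k) x = x →
      Nat.card K ∣ k := by
    intro k x hx1 hx hk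
    obtain ⟨c, -, hc⟩ := hreg x x hx1 hx hx1 hx
    rw [← hord, orderOf_dvd_iff_pow_eq_one, hc (g ^ k) hk, hc 1 rfl]
  have hpow : (g : MulAut P) ^ Nat.card K = 1 := by
    rw [← Subgroup.coe_pow, pow_card_eq_one', Subgroup.coe_one]
  -- a provisional instance of the hypothesis, to count the involutions
  have hKpos : 0 < Nat.card K := Nat.card_pos
  have hcardI : Nat.card {x : P // x ≠ 1 ∧ x * x = 1} = Nat.card K := by
    symm
    refine Nat.card_eq_of_bijective (fun k : K => ⟨(k : MulAut P) x₀,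
      by simpa using hx1, by rw [← map_mul, hx, map_one]⟩) ⟨fun a b hab => ?_, fun y => ?_⟩
    · obtain ⟨c, -, hc⟩ := hreg x₀ ((a : MulAut P) x₀) hx1 hx (by simpa using hx1)
        (by rw [← map_mul, hx, map_one])
      rw [hc a rfl, hc b (congrArg Subtype.val hab).symm]
    · obtain ⟨c, hc, -⟩ := hreg x₀ y hx1 hx y.2.1 y.2.2
      exact ⟨c, Subtype.ext hc⟩
  have hK2 : 2 ≤ Nat.card K := by
    rw [← hcardI]
    have : Nontrivial {x : P // x ≠ 1 ∧ x * x = 1} :=
      ⟨⟨x₀, hx1, hx⟩, ⟨y₀, hy1, hy⟩, fun e => hxy (congrArg Subtype.val e)⟩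
    exact Finite.one_lt_card
  have h0 : Hyp (Fin (Nat.card K + 1)) (g : MulAut P) :=
    ⟨hfin, h2, by simp; omega, by simpa using hpow, htrans, by simpa using hfree⟩
  have hΩ : Nat.card h0.omega = Nat.card K + 1 := by
    refine Eq.trans ?_ (Finite.card_option.trans (congrArg (· + 1) hcardI))
    refine Nat.card_congr ((Equiv.optionSubtypeNe (1 : h0.omega)).symm.trans
      (Equiv.optionCongr ⟨fun x => ⟨x.1.1, fun e => x.2 (Subtype.ext e), x.1.2⟩,
        fun x => ⟨⟨x.1, x.2.2⟩, fun e => x.2.1 (congrArg Subtype.val e)⟩, fun _ => rfl, fun _ => rfl⟩))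
  obtain ⟨n, hn⟩ := IsPGroup.iff_card.mp (h2.to_subgroup h0.omega)
  have hn0 : n ≠ 0 := by
    rintro rfl
    omega
  let : Fintype (GaloisField 2 n) := Fintype.ofFinite _
  have hc : Fintype.card (GaloisField 2 n) = Nat.card K + 1 := by
    rw [← Nat.card_eq_fintype_card, GaloisField.card 2 n hn0, ← hn, hΩ]
  exact ⟨n, inferInstance, g, hfin, h2, by omega, by simpa [hc] using hpow, htrans,
    by simpa [hc] using hfree⟩

end CL.Suz2
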