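import Cfsg.Agent.Base
import Cfsg.Agent.Suz2.Higman

/-!
Suzuki 2-groups of order `q ^ 2` are of type A.
-/

set_option autoImplicit false

namespace CL.Suz2

open scoped commutatorElement

/-- Pairs `(x, y)` with `(x, y) * (x', y') = (x + x', y + y' + φ x * x')`. -/
structure TA {F : Type*} [Field F] (φ : F →+* F) where
  x : F
  y : F

namespace TA

variable {F : Type*} [Field F] {φ : F →+* F}

theorem ext' {a b : TA φ} (hx : a.x = b.x) (hy : a.y = b.y) : a = b := by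
  cases a; cases b; simp_all

instance instGroupTA : Group (TA φ) where
  mul a b := ⟨a.x + b.x, a.y + b.y + φ a.x * b.x⟩
  one := ⟨0, 0⟩
  inv a := ⟨-a.x, -a.y + φ a.x * a.x⟩
  mul_assoc a b c := ext' (add_assoc _ _ _) (by
    show a.y + b.y + φ a.x * b.x + c.y + φ (a.x + b.x) * c.x =
      a.y + (b.y + c.y + φ b.x * c.x) + φ a.x * (b.x + c.x)
    rw [map_add]; ring)
  one_mul a := ext' (zero_add _) (by
    show 0 + a.y + φ 0 * a.x = a.y
    simp)
  mul_one a := ext' (add_zero _) (by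
    show a.y + 0 + φ a.x * 0 = a.y
    simp)
  inv_mul_cancel a := ext' (neg_add_cancel _) (by
    show -a.y + φ a.x * a.x + a.y + φ (-a.x) * a.x = 0
    rw [map_neg]; ring)

theorem mul_x (a b : TA φ) : (a * b).x = a.x + b.x := rfl
theorem mul_y (a b : TA φ) : (a * b).y = a.y + b.y + φ a.x * b.x := rfl
theorem one_x : (1 : TA φ).x = 0 := rfl
theorem one_y : (1 : TA φ).y = 0 := rfl
theorem inv_x (a : TA φ) : a⁻¹.x = -a.x := rfl
theorem inv_y (a : TA φ) : a⁻¹.y = -a.y + φ a.x * a.x := rfl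

/-- The matrix of a pair. -/
def toMat (φ : F →+* F) : TA φ →* Matrix (Fin 3) (Fin 3) F where
  toFun a := !![1, 0, 0; a.x, 1, 0; a.y, φ a.x, 1]
  map_one' := by
    rw [one_x, one_y, map_zero, Matrix.one_fin_three]
  map_mul' a b := by
    rw [mul_x, mul_y, Matrix.mul_fin_three, map_add]
    congr 1
    simp only [mul_one, mul_zero, zero_mul, add_zero, zero_add, one_mul]
    rw [add_comm (φ a.x), add_right_comm a.y]

theorem toMat_injective : Function.Injective (toMat φ) := fun _ _ h =>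
  ext' (congrFun (congrFun h 1) 0) (congrFun (congrFun h 2) 0)

theorem range_toHomUnits : (toMat φ).toHomUnits.range = Cfsg.suzukiTypeA F φ := by
  apply le_antisymm
  · rintro _ ⟨a, rfl⟩
    exact Subgroup.subset_closure ⟨a.x, a.y, rfl⟩
  · rw [Cfsg.suzukiTypeA, Subgroup.closure_le]
    rintro g ⟨x, y, hg⟩
    exact ⟨⟨x, y⟩, Units.ext hg.symm⟩

/-- The group of pairs is the matrix group of type A. -/
noncomputable def equivTypeA (φ : F →+* F) : TA φ ≃* Cfsg.suzukiTypeA F φ :=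
  (MonoidHom.ofInjective (f := (toMat φ).toHomUnits)
    (fun _ _ h => toMat_injective (congrArg Units.val h))).trans
    (MulEquiv.subgroupCongr range_toHomUnits)

end TA

theorem exists_retraction {R : Type*} [Group R] (D : Subgroup R) [D.Normal] (hsq : ∀ x, x * x ∈ D)
    {Z : Type*} [AddCommGroup Z] [Module (ZMod 2) Z] (ψ : Z → R)
    (hψ : ∀ y y', ψ (y + y') = ψ y * ψ y') (hinj : ∀ y, ψ y ∈ D → y = 0) :
    ∃ r : R → Z, (∀ a b, r (a * b) = r a + r b) ∧ (∀ y, r (ψ y) = y) ∧ ∀ d ∈ D, r d = 0 := by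
  let : CommGroup (R ⧸ D) :=
    { (inferInstance : Group (R ⧸ D)) with
      mul_comm := fun a b => by
        obtain ⟨a, rfl⟩ := QuotientGroup.mk_surjective a
        obtain ⟨b, rfl⟩ := QuotientGroup.mk_surjective b
        rw [← QuotientGroup.mk_mul, ← QuotientGroup.mk_mul, QuotientGroup.eq]
        have := commutator_eq_sq b⁻¹ a⁻¹
        rw [commutatorElement_def, inv_inv a, inv_inv b] at this
        rw [mul_inv_rev, ← mul_assoc, this]
        exact mul_mem (mul_mem (hsq _) (hsq _)) (hsq _) }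
  let : Module (ZMod 2) (Additive (R ⧸ D)) := AddCommGroup.zmodModule (fun x => by
    obtain ⟨a, ha⟩ := QuotientGroup.mk_surjective x.toMul
    apply Additive.toMul.injective
    rw [toMul_nsmul, ← ha, pow_two, ← QuotientGroup.mk_mul, toMul_zero, QuotientGroup.eq_one_iff]
    exact hsq a)
  let j : Z →ₗ[ZMod 2] Additive (R ⧸ D) :=
    (AddMonoidHom.mk' (fun y => Additive.ofMul (QuotientGroup.mk (ψ y) : R ⧸ D))
      (fun y y' => by rw [hψ]; rfl)).toZModLinearMap 2
  obtain ⟨r, hr⟩ := j.exists_leftInverse_of_injective (LinearMap.ker_eq_bot'.mpr fun y hy =>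
    hinj y ((QuotientGroup.eq_one_iff _).mp hy))
  refine ⟨fun a => r (Additive.ofMul (QuotientGroup.mk a : R ⧸ D)), fun a b => ?_, fun y => ?_,
    fun d hd => ?_⟩
  · rw [← map_add]; rfl
  · exact DFunLike.congr_fun hr y
  · beta_reduce
    rw [(QuotientGroup.eq_one_iff d).mpr hd]
    exact map_zero r

/-- A central extension of `F` by `F` with squaring map `x ↦ φ x * x` is of type A. -/
theorem nonempty_equiv_TA {F : Type*} [Field F] [CharP F 2] (φ : F →+* F) {P : Type*} [Group P]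
    (Z : Subgroup P) (hZ : ∀ z ∈ Z, ∀ p, p * z = z * p) (f f₀ : P → F)
    (hf : ∀ x y, f (x * y) = f x + f y) (hfk : ∀ x, f x = 0 ↔ x ∈ Z) (hfs : Function.Surjective f)
    (hf₀ : ∀ x ∈ Z, ∀ y ∈ Z, f₀ (x * y) = f₀ x + f₀ y) (hf₀k : ∀ x ∈ Z, f₀ x = 0 → x = 1)
    (hf₀s : ∀ t, ∃ x ∈ Z, f₀ x = t) (hsq : ∀ x, f₀ (x * x) = φ (f x) * f x) :
    Nonempty (P ≃* TA φ) := by
  let : Algebra (ZMod 2) F := ZMod.algebra F 2
  have hf1 : f 1 = 0 := (hfk 1).mpr (one_mem _)
  have hf01 : f₀ 1 = 0 := by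
    have := hf₀ 1 (one_mem _) 1 (one_mem _)
    rw [mul_one] at this
    exact left_eq_add.mp this
  have hfinv : ∀ x, f x⁻¹ = -f x := fun x => by
    have := hf x x⁻¹
    rw [mul_inv_cancel, hf1] at this
    exact (neg_eq_of_add_eq_zero_right this.symm).symm
  let R : Subgroup (P × TA φ) :=
    { carrier := {a | f a.1 = a.2.x}
      mul_mem' := fun {a b} ha hb => by
        simp only [Set.mem_ofPred_eq] at ha hb ⊢
        rw [Prod.fst_mul, Prod.snd_mul, hf, TA.mul_x, ha, hb]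
      one_mem' := hf1
      inv_mem' := fun {a} ha => by
        simp only [Set.mem_ofPred_eq] at ha ⊢
        rw [Prod.fst_inv, Prod.snd_inv, hfinv, TA.inv_x, ha] }
  have hR : ∀ a : R, f a.1.1 = a.1.2.x := fun a => a.2
  let D : Subgroup R :=
    { carrier := {a | a.1.1 ∈ Z ∧ a.1.2.y = f₀ a.1.1}
      mul_mem' := fun {a b} ha hb => ⟨mul_mem ha.1 hb.1, by
        show (a.1.2 * b.1.2).y = f₀ (a.1.1 * b.1.1)
        rw [TA.mul_y, hf₀ _ ha.1 _ hb.1, ha.2, hb.2, ← hR b, (hfk _).mpr hb.1, mul_zero, add_zero]⟩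
      one_mem' := ⟨one_mem _, hf01.symm⟩
      inv_mem' := fun {a} ha => ⟨inv_mem ha.1, by
        show (a.1.2⁻¹).y = f₀ (a.1.1⁻¹)
        have := hf₀ _ ha.1 _ (inv_mem ha.1)
        rw [mul_inv_cancel, hf01] at this
        rw [TA.inv_y, ← hR a, (hfk _).mpr ha.1, mul_zero, add_zero, ha.2]
        exact neg_eq_of_add_eq_zero_right this.symm⟩ }
  have hDc : ∀ d ∈ D, ∀ a : R, a * d = d * a := by
    intro d hd a
    refine Subtype.ext (Prod.ext (hZ _ hd.1 _) (TA.ext' (add_comm _ _) ?_))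
    show (a.1.2 * d.1.2).y = (d.1.2 * a.1.2).y
    rw [TA.mul_y, TA.mul_y, ← hR d, (hfk _).mpr hd.1, map_zero, mul_zero, zero_mul, add_comm a.1.2.y]
  have : D.Normal := ⟨fun d hd a => by rw [hDc d hd a, mul_inv_cancel_right]; exact hd⟩
  obtain ⟨r, hr, hrψ, hrD⟩ := exists_retraction D
    (fun a => ⟨(hfk _).mp (by
        show f (a.1.1 * a.1.1) = 0
        rw [hf, CharTwo.add_self_eq_zero]), by
      show (a.1.2 * a.1.2).y = f₀ (a.1.1 * a.1.1)
      rw [TA.mul_y, hsq, CharTwo.add_self_eq_zero, zero_add, hR a]⟩)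
    (fun y : F => (⟨(1, ⟨0, y⟩), hf1⟩ : R))
    (fun y y' => Subtype.ext (Prod.ext (mul_one 1).symm (TA.ext' (add_zero 0).symm (by
      show y + y' = y + y' + φ 0 * 0
      simp))))
    (fun y hy => hy.2.trans hf01)
  let g : P → F := fun p => r ⟨(p, ⟨f p, 0⟩), rfl⟩
  have hg : ∀ p p', g (p * p') = g p + g p' + φ (f p) * f p' := by
    intro p p'
    have h1 : (⟨(p, ⟨f p, 0⟩), rfl⟩ * ⟨(p', ⟨f p', 0⟩), rfl⟩ : R) =
        ⟨(p * p', ⟨f (p * p'), 0⟩), rfl⟩ * ⟨(1, ⟨0, φ (f p) * f p'⟩), hf1⟩ :=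
      Subtype.ext (Prod.ext (mul_one _).symm (TA.ext' (by
        show f p + f p' = f (p * p') + 0
        rw [hf, add_zero]) (by
        show 0 + 0 + φ (f p) * f p' = 0 + φ (f p) * f p' + φ (f (p * p')) * 0
        simp)))
    have h2 := congrArg r h1
    rw [hr, hr, hrψ] at h2
    show r _ = r _ + r _ + _
    rw [h2, add_assoc, CharTwo.add_self_eq_zero, add_zero]
  have hgZ : ∀ z ∈ Z, g z = f₀ z := by
    intro z hz
    have h1 : (⟨(z, ⟨f z, 0⟩), rfl⟩ * ⟨(1, ⟨0, f₀ z⟩), hf1⟩ : R) ∈ D :=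
      ⟨mul_mem hz (one_mem _), by
        show 0 + f₀ z + φ (f z) * 0 = f₀ (z * 1)
        simp⟩
    have h2 := hrD _ h1
    rw [hr, hrψ, add_eq_zero_iff_eq_neg, CharTwo.neg_eq] at h2
    exact h2
  let Ψ : P →* TA φ := MonoidHom.mk' (fun p => ⟨f p, g p⟩) (fun p p' => TA.ext' (hf p p') (hg p p'))
  refine ⟨MulEquiv.ofBijective Ψ ⟨?_, ?_⟩⟩
  · rw [injective_iff_map_eq_one]
    intro p hp
    have h1 : p ∈ Z := (hfk p).mp (congrArg TA.x hp)
    exact hf₀k p h1 ((hgZ p h1).symm.trans (congrArg TA.y hp))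
  · rintro ⟨x, y⟩
    obtain ⟨p, rfl⟩ := hfs x
    obtain ⟨z, hz, hzy⟩ := hf₀s (y - g p)
    refine ⟨p * z, TA.ext' ?_ ?_⟩
    · show f (p * z) = f p
      rw [hf, (hfk z).mpr hz, add_zero]
    · show g (p * z) = y
      rw [hg, (hfk z).mpr hz, hgZ z hz, hzy]
      ring

variable {F : Type*} [Field F] [Fintype F] [CharP F 2]

omit [CharP F 2] in
theorem odd_orderOf_of_forall (φ : F ≃+* F) (h : ∀ x, φ x * x = 1 → x = 1) : Odd (orderOf φ) := by
  have : Finite (F ≃+* F) := finite_aut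
  rw [← Nat.not_even_iff_odd]
  rintro ⟨r, hr⟩
  have hpos : 0 < orderOf φ := orderOf_pos φ
  have hfix : ∀ y, φ (φ y) = y → φ y = y := by
    intro y hy
    by_cases h0 : y = 0
    · rw [h0, map_zero]
    have h1 : φ y ≠ 0 := by simpa using h0
    have := h (y / φ y) (by rw [map_div₀, hy]; field_simp)
    rw [div_eq_one_iff_eq h1] at this
    exact this.symm
  have hsum : ∀ y, ∑ i : Fin r, 1 * autHom (φ ^ (2 * (i : ℕ))) y =
      ∑ i : Fin r, 1 * autHom (φ ^ (2 * (i : ℕ) + 1)) y := by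
    intro y
    simp only [one_mul, autHom_apply]
    have h1 := hfix (∑ i ∈ Finset.range r, (φ ^ (2 * i)) y) (by
      rw [map_sum, map_sum]
      have h2 := Finset.sum_range_succ (fun i => (φ ^ (2 * i)) y) r
      rw [Finset.sum_range_succ', show 2 * r = orderOf φ by omega, pow_orderOf_eq_one] at h2
      simp only [mul_zero, pow_zero] at h2
      rw [← add_right_cancel h2]
      refine Finset.sum_congr rfl fun i _ => ?_
      rw [show 2 * (i + 1) = 2 * i + 1 + 1 by ring, pow_succ', pow_succ']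
      rfl)
    rw [Fin.sum_univ_eq_sum_range (fun i => (φ ^ (2 * i)) y),
      Fin.sum_univ_eq_sum_range (fun i => (φ ^ (2 * i + 1)) y), ← h1, map_sum]
    refine Finset.sum_congr rfl fun i _ => ?_
    rw [pow_succ']
    rfl
  obtain ⟨j, -, hj⟩ := exists_eq_of_sum_eq_sum _ (fun i : Fin r => autHom (φ ^ (2 * (i : ℕ))))
    (fun i j hij => by
      have := pow_injOn_Iio_orderOf (x := φ) (show 2 * (i : ℕ) < orderOf φ by omega)
        (show 2 * (j : ℕ) < orderOf φ by omega) (autHom_injective hij)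
      ext
      omega) _ _ hsum ⟨0, by omega⟩ one_ne_zero
  have h3 := orderOf_dvd_of_pow_eq_one ((autHom_injective hj).trans (pow_zero φ))
  rw [hr, ← two_mul] at h3
  have := Dvd.dvd.trans (dvd_mul_right 2 r) h3
  omega

theorem Hyp.exists_typeA {P : Type*} [Group P] {ξ : MulAut P} (h : Hyp F ξ)
    (hna : ∃ x y : P, x * y ≠ y * x) (hcard : Nat.card P = Fintype.card F ^ 2) :
    ∃ φ : F ≃+* F, φ ≠ RingEquiv.refl F ∧ Odd (orderOf φ) ∧ Nonempty (P ≃* TA (φ : F →+* F)) := by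
  have := h.finite
  have : Nontrivial P := by
    obtain ⟨x, y, hxy⟩ := hna
    exact ⟨_, _, hxy⟩
  obtain ⟨lam, f₀, hf₀⟩ := h.exists_coord_omega
  obtain ⟨C, α, f, hC, -⟩ := h.exists_coord hna le_rfl (h.omega_ne_top hna)
  obtain rfl : C = ⊤ := Subgroup.eq_top_of_card_eq _ (by rw [hC.card, h.card_omega, hcard, pow_two])
  have ht := Subgroup.mem_top (G := P)
  obtain ⟨β, hβ⟩ := hC.exists_biadd hC (fun x y => f₀ ⁅x, y⁆)
    (fun x _ x' _ y _ => h.f_comm_mul_left hna hf₀ x x' y)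
    (fun x _ y _ y' _ => h.f_comm_mul_right hna hf₀ x y y')
    (fun x hx y _ => h.f_comm_omega_left hf₀ hx y) (fun x _ y hy => h.f_comm_omega_right hf₀ x hy)
  obtain ⟨q, hq⟩ := hC.exists_fun (fun x => f₀ (x * x))
    (fun x _ y hy => h.f_sq_mul_omega hna hf₀ x hy)
  have hqe : ∀ s, q (α * s) = lam * q s := fun s => by
    obtain ⟨x, hx, rfl⟩ := hC.surj s
    rw [← hC.equiv x hx, hq _ (ht _), hq x hx, ← map_mul, hf₀.equiv _ (h.sq_mem_omega hna x)]
  obtain ⟨σ, τ, hστ⟩ := quad_eq_monomial hC.prim hf₀.prim.ne_zero q β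
    (by
      have := hq 1 (one_mem _)
      rwa [hC.map_one, mul_one, hf₀.map_one] at this)
    (fun s t => by
      obtain ⟨x, hx, rfl⟩ := hC.surj s
      obtain ⟨y, hy, rfl⟩ := hC.surj t
      rw [← hC.map_mul x hx y hy, hq _ (mul_mem hx hy), hq x hx, hq y hy, hβ x hx y hy,
        h.f_sq_mul hna hf₀]) hqe
  have hq1 : q 1 ≠ 0 := by
    obtain ⟨x, hx, hx1⟩ := hC.surj 1
    rw [← hx1, hq x hx, Ne, hf₀.ker _ (h.sq_mem_omega hna x), Subgroup.mem_bot, ← h.mem_omega,
      ← hC.ker x hx, hx1]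
    exact one_ne_zero
  have hiso : Nonempty (P ≃* TA ((σ⁻¹ * τ : F ≃+* F) : F →+* F)) :=
    nonempty_equiv_TA _ h.omega (fun z hz p => h.comm hz p) f (fun x => σ⁻¹ (f₀ x / q 1))
      (fun x y => hC.map_mul x (ht x) y (ht y)) (fun x => hC.ker x (ht x))
      (fun t => by obtain ⟨x, -, hx⟩ := hC.surj t; exact ⟨x, hx⟩)
      (fun x hx y hy => by rw [hf₀.map_mul x hx y hy, add_div, map_add])
      (fun x hx h0 => by
        rw [map_eq_zero_iff _ (σ⁻¹).injective, div_eq_zero_iff, or_iff_left hq1, hf₀.ker x hx] at h0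
        exact Subgroup.mem_bot.mp h0)
      (fun t => by
        obtain ⟨x, hx, hxt⟩ := hf₀.surj (σ t * q 1)
        exact ⟨x, hx, by rw [hxt, mul_div_cancel_right₀ _ hq1]; exact σ.symm_apply_apply t⟩)
      (fun x => by
        rw [← hq x (ht x), hστ, mul_div_cancel_left₀ _ hq1, map_mul, mul_comm]
        congr 1
        exact σ.symm_apply_apply _)
  refine ⟨σ⁻¹ * τ, fun h1 => ?_, odd_orderOf_of_forall _ fun x hx => ?_, hiso⟩
  · obtain ⟨e⟩ := hiso
    obtain ⟨x, y, hxy⟩ := hna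
    apply hxy
    apply e.injective
    rw [map_mul, map_mul]
    refine TA.ext' (add_comm _ _) ?_
    have h2 : ∀ t, ((σ⁻¹ * τ : F ≃+* F) : F →+* F) t = t := fun t => DFunLike.congr_fun h1 t
    rw [TA.mul_y, TA.mul_y, h2, h2]
    ring
  · have hx0 : x ≠ 0 := by rintro rfl; simp at hx
    obtain ⟨k, rfl⟩ := hC.prim.exists_pow hx0
    have h1 : ∀ k : ℕ, q (α ^ k) = lam ^ k * q 1 := by
      intro k
      induction k with
      | zero => simp
      | succ k ih => rw [pow_succ', hqe, ih, pow_succ', mul_assoc]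
    have h2 : σ (α ^ k) * τ (α ^ k) = 1 := by
      have := congrArg σ hx
      rwa [map_mul, map_one, ← RingAut.mul_apply, mul_inv_cancel_left, mul_comm] at this
    have h3 := h1 k
    rw [hστ, h2, mul_one, eq_comm, mul_eq_right₀ hq1, hf₀.prim.pow_eq_one_iff] at h3
    exact hC.prim.pow_eq_one_iff.mpr h3

end CL.Suz2
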