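import Cfsg.Agent.Base
import Cfsg.Agent.Suz2.TypeA

/-!
Equivariant form of the type A theorem for Suzuki 2-groups.
-/

set_option autoImplicit false

namespace CL.Suz2

open scoped commutatorElement

/-- Pairs `(w, y)` in `W × F` with `(w, y) * (w', y') = (w + w', y + y' + B w w')`. -/
structure TB {W F : Type*} [AddCommGroup W] [AddCommGroup F] (B : W →+ W →+ F) where
  x : W
  y : F

namespace TB

variable {W F : Type*} [AddCommGroup W] [AddCommGroup F] {B : W →+ W →+ F}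

theorem ext' {a b : TB B} (hx : a.x = b.x) (hy : a.y = b.y) : a = b := by
  cases a; cases b; simp_all

instance instGroupTB : Group (TB B) where
  mul a b := ⟨a.x + b.x, a.y + b.y + B a.x b.x⟩
  one := ⟨0, 0⟩
  inv a := ⟨-a.x, -a.y + B a.x a.x⟩
  mul_assoc a b c := ext' (add_assoc _ _ _) (by
    show a.y + b.y + B a.x b.x + c.y + B (a.x + b.x) c.x =
      a.y + (b.y + c.y + B b.x c.x) + B a.x (b.x + c.x)
    rw [map_add, map_add, AddMonoidHom.add_apply]; abel)
  one_mul a := ext' (zero_add _) (by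
    show 0 + a.y + B 0 a.x = a.y
    simp)
  mul_one a := ext' (add_zero _) (by
    show a.y + 0 + B a.x 0 = a.y
    simp)
  inv_mul_cancel a := ext' (neg_add_cancel _) (by
    show -a.y + B a.x a.x + a.y + B (-a.x) a.x = 0
    rw [map_neg, AddMonoidHom.neg_apply]; abel)

theorem mul_x (a b : TB B) : (a * b).x = a.x + b.x := rfl
theorem mul_y (a b : TB B) : (a * b).y = a.y + b.y + B a.x b.x := rfl
theorem one_x : (1 : TB B).x = 0 := rfl
theorem one_y : (1 : TB B).y = 0 := rfl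
theorem inv_x (a : TB B) : a⁻¹.x = -a.x := rfl
theorem inv_y (a : TB B) : a⁻¹.y = -a.y + B a.x a.x := rfl

end TB

/-- A central extension of an elementary abelian 2-group `W` by `F` whose squaring map is the diagonal of
a biadditive map `B` has `B` as a cocycle. -/
theorem exists_second_coord {W F : Type*} [AddCommGroup W] [AddCommGroup F] [Module (ZMod 2) F]
    (B : W →+ W →+ F) {P : Type*} [Group P]
    (Z : Subgroup P) (hZ : ∀ z ∈ Z, ∀ p, p * z = z * p) (f : P → W) (f₀ : P → F)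
    (hf : ∀ x y, f (x * y) = f x + f y) (hfk : ∀ x, f x = 0 ↔ x ∈ Z) (hsqZ : ∀ x, x * x ∈ Z)
    (hf₀ : ∀ x ∈ Z, ∀ y ∈ Z, f₀ (x * y) = f₀ x + f₀ y)
    (hsq : ∀ x, f₀ (x * x) = B (f x) (f x)) :
    ∃ g : P → F, (∀ p p', g (p * p') = g p + g p' + B (f p) (f p')) ∧ ∀ z ∈ Z, g z = f₀ z := by
  have h2 : ∀ y : F, y + y = 0 := fun y => by
    rw [← two_smul (ZMod 2) y, show (2 : ZMod 2) = 0 from rfl, zero_smul]
  have hf1 : f 1 = 0 := (hfk 1).mpr (one_mem _)
  have hf01 : f₀ 1 = 0 := by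
    have := hf₀ 1 (one_mem _) 1 (one_mem _)
    rw [mul_one] at this
    exact left_eq_add.mp this
  have hfinv : ∀ x, f x⁻¹ = -f x := fun x => by
    have := hf x x⁻¹
    rw [mul_inv_cancel, hf1] at this
    exact (neg_eq_of_add_eq_zero_right this.symm).symm
  let R : Subgroup (P × TB B) :=
    { carrier := {a | f a.1 = a.2.x}
      mul_mem' := fun {a b} ha hb => by
        simp only [Set.mem_ofPred_eq] at ha hb ⊢
        rw [Prod.fst_mul, Prod.snd_mul, hf, TB.mul_x, ha, hb]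
      one_mem' := hf1
      inv_mem' := fun {a} ha => by
        simp only [Set.mem_ofPred_eq] at ha ⊢
        rw [Prod.fst_inv, Prod.snd_inv, hfinv, TB.inv_x, ha] }
  have hR : ∀ a : R, f a.1.1 = a.1.2.x := fun a => a.2
  let D : Subgroup R :=
    { carrier := {a | a.1.1 ∈ Z ∧ a.1.2.y = f₀ a.1.1}
      mul_mem' := fun {a b} ha hb => ⟨mul_mem ha.1 hb.1, by
        show (a.1.2 * b.1.2).y = f₀ (a.1.1 * b.1.1)
        rw [TB.mul_y, hf₀ _ ha.1 _ hb.1, ha.2, hb.2, ← hR b, (hfk _).mpr hb.1, map_zero, add_zero]⟩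
      one_mem' := ⟨one_mem _, hf01.symm⟩
      inv_mem' := fun {a} ha => ⟨inv_mem ha.1, by
        show (a.1.2⁻¹).y = f₀ (a.1.1⁻¹)
        have := hf₀ _ ha.1 _ (inv_mem ha.1)
        rw [mul_inv_cancel, hf01] at this
        rw [TB.inv_y, ← hR a, (hfk _).mpr ha.1, map_zero, add_zero, ha.2]
        exact neg_eq_of_add_eq_zero_right this.symm⟩ }
  have hDc : ∀ d ∈ D, ∀ a : R, a * d = d * a := by
    intro d hd a
    refine Subtype.ext (Prod.ext (hZ _ hd.1 _) (TB.ext' (add_comm _ _) ?_))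
    show (a.1.2 * d.1.2).y = (d.1.2 * a.1.2).y
    rw [TB.mul_y, TB.mul_y, ← hR d, (hfk _).mpr hd.1, map_zero, map_zero, AddMonoidHom.zero_apply,
      add_comm a.1.2.y]
  have : D.Normal := ⟨fun d hd a => by rw [hDc d hd a, mul_inv_cancel_right]; exact hd⟩
  obtain ⟨r, hr, hrψ, hrD⟩ := exists_retraction D
    (fun a => ⟨hsqZ _, by
      show (a.1.2 * a.1.2).y = f₀ (a.1.1 * a.1.1)
      rw [TB.mul_y, hsq, h2, zero_add, hR a]⟩)
    (fun y : F => (⟨(1, ⟨0, y⟩), hf1⟩ : R))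
    (fun y y' => Subtype.ext (Prod.ext (mul_one 1).symm (TB.ext' (add_zero 0).symm (by
      show y + y' = y + y' + B 0 0
      simp))))
    (fun y hy => hy.2.trans hf01)
  refine ⟨fun p => r ⟨(p, ⟨f p, 0⟩), rfl⟩, fun p p' => ?_, fun z hz => ?_⟩
  · have h1 : (⟨(p, ⟨f p, 0⟩), rfl⟩ * ⟨(p', ⟨f p', 0⟩), rfl⟩ : R) =
        ⟨(p * p', ⟨f (p * p'), 0⟩), rfl⟩ * ⟨(1, ⟨0, B (f p) (f p')⟩), hf1⟩ :=
      Subtype.ext (Prod.ext (mul_one _).symm (TB.ext' (by
        show f p + f p' = f (p * p') + 0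
        rw [hf, add_zero]) (by
        show 0 + 0 + B (f p) (f p') = 0 + B (f p) (f p') + B (f (p * p')) 0
        simp)))
    have h3 := congrArg r h1
    rw [hr, hr, hrψ] at h3
    show r _ = r _ + r _ + _
    rw [h3, add_assoc, h2, add_zero]
  · have h1 : (⟨(z, ⟨f z, 0⟩), rfl⟩ * ⟨(1, ⟨0, f₀ z⟩), hf1⟩ : R) ∈ D :=
      ⟨mul_mem hz (one_mem _), by
        show 0 + f₀ z + B (f z) 0 = f₀ (z * 1)
        simp⟩
    have h3 := hrD _ h1
    rw [hr, hrψ] at h3
    exact add_right_cancel (h3.trans (h2 _).symm)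

variable {F : Type*} [Field F] [Fintype F] [CharP F 2]

/-- The operator `b ↦ b (α * ·) + μ * b` on additive maps is onto when `μ` is no conjugate of `α`. -/
theorem exists_add_solve {α μ : F} (h : ∀ σ : F ≃+* F, σ α ≠ μ) (D : F →+ F) :
    ∃ b : F →+ F, ∀ x, b (α * x) + μ * b x = D x := by
  have : Finite (F ≃+* F) := finite_aut
  let : Fintype (F ≃+* F) := Fintype.ofFinite _
  obtain ⟨c, hc⟩ := exists_add_eq_sum D
  refine ⟨AddMonoidHom.mk' (fun x => ∑ σ : F ≃+* F, c σ / (σ α + μ) * σ x)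
    (fun x y => by simp [mul_add, Finset.sum_add_distrib]), fun x => ?_⟩
  simp only [AddMonoidHom.mk'_apply]
  rw [hc, Finset.mul_sum, ← Finset.sum_add_distrib]
  refine Finset.sum_congr rfl fun σ _ => ?_
  have h1 : σ α + μ ≠ 0 := fun e => h σ (by rwa [add_eq_zero_iff_eq_neg, CharTwo.neg_eq] at e)
  rw [map_mul]
  field_simp

theorem Hyp.exists_typeA_equiv {P : Type*} [Group P] {ξ : MulAut P} (h : Hyp F ξ)
    (hna : ∃ x y : P, x * y ≠ y * x) (hcard : Nat.card P = Fintype.card F ^ 2) :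
    ∃ (φ : F ≃+* F) (α : F) (e : TA (φ : F →+* F) ≃* P), φ ≠ RingEquiv.refl F ∧ Odd (orderOf φ) ∧
      Prim α ∧ ∀ a, ξ (e a) = e ⟨α * a.x, α * φ α * a.y⟩ := by
  let : Algebra (ZMod 2) F := ZMod.algebra F 2
  have := h.finite
  have : Nontrivial P := by
    obtain ⟨x, y, hxy⟩ := hna
    exact ⟨_, _, hxy⟩
  obtain ⟨lam, f₀, hf₀⟩ := h.exists_coord_omega
  obtain ⟨C, α, f, hC, -⟩ := h.exists_coord hna le_rfl (h.omega_ne_top hna)
  obtain rfl : C = ⊤ := Subgroup.eq_top_of_card_eq _ (by rw [hC.card, h.card_omega, hcard, pow_two])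
  have ht := Subgroup.mem_top (G := P)
  obtain ⟨β, hβ⟩ := hC.exists_biadd hC (fun x y => f₀ ⁅x, y⁆)
    (fun x _ x' _ y _ => h.f_comm_mul_left hna hf₀ x x' y)
    (fun x _ y _ y' _ => h.f_comm_mul_right hna hf₀ x y y')
    (fun x hx y _ => h.f_comm_omega_left hf₀ hx y) (fun x _ y hy => h.f_comm_omega_right hf₀ x hy)
  obtain ⟨q, hq⟩ := hC.exists_fun (fun x => f₀ (x * x))
    (fun x _ y hy => h.f_sq_mul_omega hna hf₀ x hy)
  have hqe : ∀ s, q (α * s) = lam * q s := fun s => by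
    obtain ⟨x, hx, rfl⟩ := hC.surj s
    rw [← hC.equiv x hx, hq _ (ht _), hq x hx, ← map_mul, hf₀.equiv _ (h.sq_mem_omega hna x)]
  obtain ⟨σ, τ, hστ⟩ := quad_eq_monomial hC.prim hf₀.prim.ne_zero q β
    (by
      have := hq 1 (one_mem _)
      rwa [hC.map_one, mul_one, hf₀.map_one] at this)
    (fun s t => by
      obtain ⟨x, hx, rfl⟩ := hC.surj s
      obtain ⟨y, hy, rfl⟩ := hC.surj t
      rw [← hC.map_mul x hx y hy, hq _ (mul_mem hx hy), hq x hx, hq y hy, hβ x hx y hy,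
        h.f_sq_mul hna hf₀]) hqe
  have hq1 : q 1 ≠ 0 := by
    obtain ⟨x, hx, hx1⟩ := hC.surj 1
    rw [← hx1, hq x hx, Ne, hf₀.ker _ (h.sq_mem_omega hna x), Subgroup.mem_bot, ← h.mem_omega,
      ← hC.ker x hx, hx1]
    exact one_ne_zero
  set φ := σ⁻¹ * τ with hφ
  have hσφ : ∀ x, σ (φ x) = τ x := fun x => by
    rw [← RingAut.mul_apply, hφ, mul_inv_cancel_left]
  have hlam : σ⁻¹ lam = α * φ α := by
    have h1 := hqe 1
    rw [mul_one, hστ α, mul_comm lam, mul_right_inj' hq1] at h1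
    rw [← h1, map_mul]
    congr 1
    exact σ.symm_apply_apply _
  let f₁ : P → F := fun x => σ⁻¹ (f₀ x / q 1)
  have hsq : ∀ x, f₁ (x * x) = φ (f x) * f x := fun x => by
    simp only [f₁]
    rw [← hq x (ht x), hστ, mul_div_cancel_left₀ _ hq1, map_mul, mul_comm]
    congr 1
    exact σ.symm_apply_apply _
  have hfm : ∀ x y, f (x * y) = f x + f y := fun x y => hC.map_mul x (ht x) y (ht y)
  have hfk : ∀ x, f x = 0 ↔ x ∈ h.omega := fun x => hC.ker x (ht x)
  have hφ1 : φ ≠ RingEquiv.refl F := by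
    intro h1
    have h2 : ∀ t, φ t = t := fun t => DFunLike.congr_fun h1 t
    obtain ⟨x, y, hxy⟩ := hna
    apply hxy
    have h3 := h.f_sq_mul ⟨x, y, hxy⟩ hf₀ x y
    rw [← hq _ (ht _), ← hq _ (ht _), ← hq _ (ht _), hfm, hστ, hστ (f x), hστ (f y), ← hσφ, ← hσφ,
      ← hσφ, h2, h2, h2, map_add] at h3
    have h4 : f₀ ⁅x, y⁆ = 0 := by
      linear_combination -h3 + q 1 * σ (f x) * σ (f y) * (CharTwo.two_eq_zero (R := F))
    rw [hf₀.ker _ (h.comm_mem_omega ⟨x, y, hxy⟩ x y), Subgroup.mem_bot] at h4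
    exact commutatorElement_eq_one_iff_mul_comm.mp h4
  obtain ⟨g, hg, hgZ⟩ := exists_second_coord
    ((AddMonoidHom.mul (R := F)).comp (φ : F →+ F)) h.omega (fun z hz p => h.comm hz p) f f₁ hfm hfk
    (h.sq_mem_omega hna) (fun x hx y hy => by simp only [f₁]; rw [hf₀.map_mul x hx y hy, add_div, map_add])
    hsq
  replace hg : ∀ p p', g (p * p') = g p + g p' + φ (f p) * f p' := hg
  have hd : ∀ p p', g (ξ (p * p')) + α * φ α * g (p * p') =
      (g (ξ p) + α * φ α * g p) + (g (ξ p') + α * φ α * g p') := by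
    intro p p'
    rw [map_mul, hg, hg, hC.equiv _ (ht _), hC.equiv _ (ht _), map_mul]
    linear_combination α * φ α * φ (f p) * f p' * (CharTwo.two_eq_zero (R := F))
  have hd0 : ∀ z ∈ h.omega, g (ξ z) + α * φ α * g z = 0 := by
    intro z hz
    rw [hgZ z hz, hgZ _ (h.omega_inv z hz)]
    simp only [f₁]
    rw [hf₀.equiv z hz, mul_div_assoc, map_mul, hlam, CharTwo.add_self_eq_zero]
  obtain ⟨D, hD⟩ := hC.exists_fun (fun p => g (ξ p) + α * φ α * g p)
    (fun p _ z hz => by rw [hd, hd0 z hz, add_zero])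
  obtain ⟨b, hb⟩ := exists_add_solve (α := α) (μ := α * φ α) (fun ρ hρ => by
      have h1 : autHom 1 * autHom φ = autHom ρ := hC.prim.hom_ext (by simp) hρ.symm
      exact hφ1 (eq_of_mul_eq_aut (fun x => DFunLike.congr_fun h1 x)).1.symm)
    (AddMonoidHom.mk' D (fun s t => by
      obtain ⟨x, hx, rfl⟩ := hC.surj s
      obtain ⟨y, hy, rfl⟩ := hC.surj t
      rw [← hfm, hD _ (ht _), hD _ (ht _), hD _ (ht _), hd]))
  let Ψ : P →* TA (φ : F →+* F) := MonoidHom.mk' (fun p => ⟨f p, g p + b (f p)⟩)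
    (fun p p' => TA.ext' (hfm p p') (by
      show g (p * p') + b (f (p * p')) = g p + b (f p) + (g p' + b (f p')) + φ (f p) * f p'
      rw [hg, hfm, map_add]
      ring))
  have hΨ : Function.Bijective Ψ := by
    have : Finite (TA (φ : F →+* F)) := Finite.of_equiv (F × F)
      ⟨fun a => ⟨a.1, a.2⟩, fun a => (a.x, a.y), fun _ => rfl, fun _ => rfl⟩
    refine (Function.Injective.bijective_of_nat_card_le ?_ ?_)
    · rw [injective_iff_map_eq_one]
      intro p hp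
      have h0 : f p = 0 := congrArg TA.x hp
      have h1 : p ∈ h.omega := (hfk p).mp h0
      have h2 : g p + b (f p) = 0 := congrArg TA.y hp
      rw [h0, map_zero, add_zero, hgZ p h1] at h2
      simp only [f₁] at h2
      rw [map_eq_zero_iff _ (σ⁻¹).injective, div_eq_zero_iff, or_iff_left hq1, hf₀.ker p h1] at h2
      exact Subgroup.mem_bot.mp h2
    · rw [hcard, Nat.card_congr (⟨fun a => (a.x, a.y), fun a => ⟨a.1, a.2⟩, fun _ => rfl,
        fun _ => rfl⟩ : TA (φ : F →+* F) ≃ F × F), Nat.card_prod, Nat.card_eq_fintype_card, pow_two]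
  refine ⟨φ, α, (MulEquiv.ofBijective Ψ hΨ).symm, hφ1, odd_orderOf_of_forall _ fun x hx => ?_,
    hC.prim, fun a => ?_⟩
  · have hx0 : x ≠ 0 := by rintro rfl; simp at hx
    obtain ⟨k, rfl⟩ := hC.prim.exists_pow hx0
    have h1 : ∀ k : ℕ, q (α ^ k) = lam ^ k * q 1 := by
      intro k
      induction k with
      | zero => simp
      | succ k ih => rw [pow_succ', hqe, ih, pow_succ', mul_assoc]
    have h2 : σ (α ^ k) * τ (α ^ k) = 1 := by
      have := congrArg σ hx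
      rwa [map_mul, map_one, hσφ, mul_comm] at this
    have h3 := h1 k
    rw [hστ, h2, mul_one, eq_comm, mul_eq_right₀ hq1, hf₀.prim.pow_eq_one_iff] at h3
    exact hC.prim.pow_eq_one_iff.mpr h3
  · obtain ⟨p, rfl⟩ := hΨ.2 a
    rw [MulEquiv.eq_symm_apply]
    have e1 : (MulEquiv.ofBijective Ψ hΨ).symm (Ψ p) = p :=
      (MulEquiv.ofBijective Ψ hΨ).symm_apply_apply p
    rw [e1]
    refine TA.ext' (hC.equiv p (ht p)) ?_
    show g (ξ p) + b (f (ξ p)) = α * φ α * (g p + b (f p))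
    have h1 := hb (f p)
    rw [AddMonoidHom.mk'_apply, hD p (ht p)] at h1
    rw [hC.equiv p (ht p)]
    linear_combination h1 + (g (ξ p) - α * φ α * b (f p)) * (CharTwo.two_eq_zero (R := F))

/-- The working hypothesis from a cyclic group acting regularly on the involutions. -/
theorem exists_hyp_of_hom {P K : Type*} [Group P] [Finite P] [Group K] [IsCyclic K]
    (ρ : K →* MulAut P) (h2 : IsPGroup 2 P)
    (hinv : ∃ x y : P, x ≠ y ∧ x ≠ 1 ∧ x * x = 1 ∧ y ≠ 1 ∧ y * y = 1)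
    (hreg : ∀ x y : P, x ≠ 1 → x * x = 1 → y ≠ 1 → y * y = 1 → ∃! k : K, ρ k x = y) :
    ∃ (n : ℕ) (_ : Fintype (GaloisField 2 n)) (g : K), (∀ k, k ∈ Subgroup.zpowers g) ∧
      Finite K ∧ Nat.card K = Fintype.card (GaloisField 2 n) - 1 ∧ Hyp (GaloisField 2 n) (ρ g) := by
  classical
  obtain ⟨x₀, y₀, hxy, hx1, hx, hy1, hy⟩ := hinv
  obtain ⟨g, hg⟩ := IsCyclic.exists_generator (α := K)
  have hbij : Function.Bijective (fun k : K => (⟨ρ k x₀,
      by simpa using hx1, by rw [← map_mul, hx, map_one]⟩ : {x : P // x ≠ 1 ∧ x * x = 1})) := by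
    refine ⟨fun a b hab => ?_, fun y => ?_⟩
    · obtain ⟨c, -, hc⟩ := hreg x₀ (ρ a x₀) hx1 hx (by simpa using hx1)
        (by rw [← map_mul, hx, map_one])
      rw [hc a rfl, hc b (congrArg Subtype.val hab).symm]
    · obtain ⟨c, hc, -⟩ := hreg x₀ y hx1 hx y.2.1 y.2.2
      exact ⟨c, Subtype.ext hc⟩
  have : Finite K := Finite.of_injective _ hbij.1
  have hord : orderOf g = Nat.card K := orderOf_eq_card_of_forall_mem_zpowers hg
  have htrans : ∀ x y : P, x ≠ 1 → x * x = 1 → y ≠ 1 → y * y = 1 →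
      ∃ k : ℕ, (ρ g ^ k) x = y := by
    intro x y hx1 hx hy1 hy
    obtain ⟨k, hk, -⟩ := hreg x y hx1 hx hy1 hy
    obtain ⟨j, rfl⟩ := (mem_powers_iff_mem_zpowers.mpr (hg k))
    exact ⟨j, by rw [← map_pow]; exact hk⟩
  have hfree : ∀ (k : ℕ) (x : P), x ≠ 1 → x * x = 1 → (ρ g ^ k) x = x → Nat.card K ∣ k := by
    intro k x hx1 hx hk
    obtain ⟨c, -, hc⟩ := hreg x x hx1 hx hx1 hx
    rw [← hord, orderOf_dvd_iff_pow_eq_one, hc (g ^ k) (by rw [← map_pow] at hk; exact hk),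
      hc 1 (by simp)]
  have hpow : ρ g ^ Nat.card K = 1 := by
    rw [← map_pow, pow_card_eq_one', map_one]
  have hcardI : Nat.card {x : P // x ≠ 1 ∧ x * x = 1} = Nat.card K :=
    (Nat.card_eq_of_bijective _ hbij).symm
  have hK2 : 2 ≤ Nat.card K := by
    rw [← hcardI]
    have : Nontrivial {x : P // x ≠ 1 ∧ x * x = 1} :=
      ⟨⟨x₀, hx1, hx⟩, ⟨y₀, hy1, hy⟩, fun e => hxy (congrArg Subtype.val e)⟩
    exact Finite.one_lt_card
  have h0 : Hyp (Fin (Nat.card K + 1)) (ρ g) :=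
    ⟨inferInstance, h2, by simp; omega, by simpa using hpow, htrans, by simpa using hfree⟩
  have hΩ : Nat.card h0.omega = Nat.card K + 1 := by
    refine Eq.trans ?_ (Finite.card_option.trans (congrArg (· + 1) hcardI))
    refine Nat.card_congr ((Equiv.optionSubtypeNe (1 : h0.omega)).symm.trans
      (Equiv.optionCongr ⟨fun x => ⟨x.1.1, fun e => x.2 (Subtype.ext e), x.1.2⟩,
        fun x => ⟨⟨x.1, x.2.2⟩, fun e => x.2.1 (congrArg Subtype.val e)⟩, fun _ => rfl, fun _ => rfl⟩))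
  obtain ⟨n, hn⟩ := IsPGroup.iff_card.mp (h2.to_subgroup h0.omega)
  have hn0 : n ≠ 0 := by
    rintro rfl
    omega
  let : Fintype (GaloisField 2 n) := Fintype.ofFinite _
  have hc : Fintype.card (GaloisField 2 n) = Nat.card K + 1 := by
    rw [← Nat.card_eq_fintype_card, GaloisField.card 2 n hn0, ← hn, hΩ]
  exact ⟨n, inferInstance, g, hg, inferInstance, by omega, inferInstance, h2, by omega,
    by simpa [hc] using hpow, htrans, by simpa [hc] using hfree⟩

omit [CharP F 2] in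
/-- A cyclic group of order `|F| - 1` is identified with `Fˣ`, a given generator going to a given
primitive element. -/
theorem exists_mulEquiv_units {K : Type*} [Group K] [Finite K] {g : K}
    (hg : ∀ k, k ∈ Subgroup.zpowers g) (hK : Nat.card K = Fintype.card F - 1) {α : F}
    (hα : Prim α) : ∃ κ : K ≃* Fˣ, (κ g : F) = α := by
  let a : Fˣ := Units.mk0 α hα.ne_zero
  have ha : ∀ u : Fˣ, u ∈ Subgroup.zpowers a := fun u => by
    obtain ⟨k, hk⟩ := hα.exists_pow u.ne_zero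
    exact ⟨k, Units.ext (by simpa [a] using hk)⟩
  refine ⟨mulEquivOfOrderOfEq hg ha ?_, by rw [mulEquivOfOrderOfEq_apply_gen]; rfl⟩
  rw [orderOf_eq_card_of_forall_mem_zpowers hg, hK, ← orderOf_units]
  exact hα.symm

/-- Higman's type A theorem, equivariant form. -/
theorem exists_typeA_equivariant {P K : Type*} [Group P] [Finite P] [Group K] [IsCyclic K]
    (ρ : K →* MulAut P) (h2 : IsPGroup 2 P) (hna : ∃ x y : P, x * y ≠ y * x)
    (hinv : ∃ x y : P, x ≠ y ∧ x ≠ 1 ∧ x * x = 1 ∧ y ≠ 1 ∧ y * y = 1)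
    (hreg : ∀ x y : P, x ≠ 1 → x * x = 1 → y ≠ 1 → y * y = 1 → ∃! k : K, ρ k x = y)
    (hcard : Nat.card P = Nat.card (Subgroup.center P) ^ 2) :
    ∃ (F : Type) (_ : Field F) (_ : Fintype F) (_ : CharP F 2) (φ : F ≃+* F) (κ : K ≃* Fˣ)
      (e : TA (φ : F →+* F) ≃* P), Fintype.card F = Nat.card (Subgroup.center P) ∧
      φ ≠ RingEquiv.refl F ∧ Odd (orderOf φ) ∧
      ∀ (k : K) (a : TA (φ : F →+* F)), ρ k (e a) = e ⟨κ k * a.x, κ k * φ (κ k) * a.y⟩ := by
  obtain ⟨n, _, g, hg, _, hK, h⟩ := exists_hyp_of_hom ρ h2 hinv hreg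
  have : Nontrivial P := by
    obtain ⟨x, y, hxy⟩ := hna
    exact ⟨_, _, hxy⟩
  rw [h.center_eq_omega hna, h.card_omega] at hcard ⊢
  obtain ⟨φ, α, e, h1, h3, hα, he⟩ := h.exists_typeA_equiv hna hcard
  obtain ⟨κ, hκ⟩ := exists_mulEquiv_units hg hK hα
  refine ⟨GaloisField 2 n, inferInstance, inferInstance, inferInstance, φ, κ, e, rfl, h1, h3,
    fun k => ?_⟩
  obtain ⟨j, rfl⟩ := (mem_powers_iff_mem_zpowers.mpr (hg k))
  induction j with
  | zero => intro a; simp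
  | succ j ih =>
    intro a
    simp only [pow_succ'] at ih ⊢
    rw [map_mul, MulAut.mul_apply, ih, he, map_mul, Units.val_mul, hκ, map_mul]
    congr 2
    · exact (mul_assoc _ _ _).symm
    · ring

end CL.Suz2
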